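import Groth.Agent.AlgSp.CartierCut
import Groth.Agent.AlgSpB.RedInduced
import Groth.Agent.AlgSp.SchImageRep
import Groth.Agent.S1687
import Groth.Agent.RegLoc.UFD

/-!
# The complement of a dense affine open subspace in a regular separated space
-/

universe u

open CategoryTheory CategoryTheory.Limits AlgebraicGeometry TopologicalSpace

set_option backward.isDefEq.respectTransparency false
set_option backward.isDefEq.respectTransparency.types false
set_option autoImplicit false

namespace Groth.Agent.AlgSpReg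

open _root_.AlgSp

theorem uniqueFactorizationMonoid_of_regular (A : Type u) [CommRing A] [IsRegularLocalRing A] :
    IsDomain A ∧ UniqueFactorizationMonoid A := by
  refine ⟨RegLoc.isDomain A, ?_⟩
  obtain ⟨d, hd⟩ := WithBot.ne_bot_iff_exists.1 (ringKrullDim_ne_bot (R := A))
  obtain ⟨n, hn⟩ := ENat.ne_top_iff_exists.1 (show d ≠ ⊤ from fun h => by
    exact (ringKrullDim_lt_top (R := A)).ne (by rw [← hd, h]; rfl))
  exact RegLoc.UFD.uniqueFactorizationMonoid_aux n A (by rw [← hd, ← hn]; rfl)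

variable {S : Scheme.{u}}

/-- Over a separated base, a separated space meets two affine charts in an affine scheme. -/
theorem exists_affine_pullback [S.IsSeparated] {X : Sp S} (hsep : IsSeparatedSp X) {T W : Over S}
    [IsAffine T.left] [IsAffine W.left] (j : (yon S).obj T ⟶ X) (a : (yon S).obj W ⟶ X) :
    ∃ (P : Over S) (p : P ⟶ T) (q : P ⟶ W), IsAffine P.left ∧
      IsPullback ((yon S).map p) ((yon S).map q) j a := by
  let one : Over S := Over.mk (𝟙 S)
  let tT : T ⟶ one := Over.homMk T.hom (Category.comp_id _)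
  let tW : W ⟶ one := Over.homMk W.hom (Category.comp_id _)
  have hsub : ∀ {Q : Over S} (u v : Q ⟶ one), u = v := fun u v =>
    Over.OverMorphism.ext ((Category.comp_id _).symm.trans (((Over.w u).trans (Over.w v).symm).trans (Category.comp_id _)))
  let TW : Over S := Over.mk (pullback.fst T.hom W.hom ≫ T.hom)
  let p₁ : TW ⟶ T := Over.homMk (pullback.fst T.hom W.hom) rfl
  let p₂ : TW ⟶ W := Over.homMk (pullback.snd T.hom W.hom) pullback.condition.symm
  have sq0 : IsPullback p₁ p₂ tT tW := IsPullback.of_map (Over.forget S) (hsub _ _) (IsPullback.of_hasPullback _ _)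
  have hTW : IsAffine TW.left := by
    have : IsClosedImmersion (pullback.mapDesc T.hom W.hom (terminal.from S)) := inferInstance
    exact (isAffine_of_isAffineHom (pullback.mapDesc T.hom W.hom (terminal.from S)) : IsAffine (pullback T.hom W.hom))
  obtain ⟨P, s, r, sP⟩ := hsep.1 (prod.lift ((yon S).map p₁ ≫ j) ((yon S).map p₂ ≫ a))
  have : IsClosedImmersion s.left := hsep.2 _ _ _ sP
  have e₁ : r = (yon S).map (s ≫ p₁) ≫ j := by
    have := congrArg (· ≫ prod.fst) sP.w
    simpa using this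
  have e₂ : r = (yon S).map (s ≫ p₂) ≫ a := by
    have := congrArg (· ≫ prod.snd) sP.w
    simpa using this
  refine ⟨P, s ≫ p₁, s ≫ p₂, isAffine_of_isAffineHom s.left, IsPullback.of_isLimit' ⟨e₁.symm.trans e₂⟩
    (PullbackCone.IsLimit.mk _ (fun c => sP.lift (c.fst ≫ j) ((sq0.map (yon S)).lift c.fst c.snd ?_) ?_) ?_ ?_ ?_)⟩
  · obtain ⟨Q, hQ⟩ : ∃ Q, Q = c.pt := ⟨_, rfl⟩
    apply ObjectProperty.hom_ext
    ext U x
    exact ULift.ext _ _ (hsub _ _)
  · refine prod.hom_ext ?_ ?_
    · simp only [Category.assoc, prod.lift_fst, Category.comp_id]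
      rw [(sq0.map (yon S)).lift_fst_assoc]
    · simp only [Category.assoc, prod.lift_snd, Category.comp_id]
      rw [(sq0.map (yon S)).lift_snd_assoc, c.condition]
  · intro c
    simp
  · intro c
    simp
  · intro c m h1 h2
    refine sP.hom_ext ?_ ((sq0.map (yon S)).hom_ext ?_ ?_)
    · rw [IsPullback.lift_fst, e₁, reassoc_of% h1]
    · rw [IsPullback.lift_snd, IsPullback.lift_fst, Category.assoc, ← Functor.map_comp, h1]
    · rw [IsPullback.lift_snd, IsPullback.lift_snd, Category.assoc, ← Functor.map_comp, h2]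

open Groth.Agent in
/-- The vanishing ideal of the complement of a dense affine open is effective Cartier. -/
theorem isEffCartierIdeal_vanishingIdeal_compl (X : Scheme.{u}) [IsNoetherian X]
    (hΔ : ∀ V W : X.Opens, IsAffineOpen V → IsAffineOpen W → IsAffineOpen (V ⊓ W)) (U : X.Opens) (hU : IsAffineOpen U)
    (hdense : Dense (U : Set ↥X))
    (hufd : ∀ x : ↥X, x ∉ U → IsDomain (X.presheaf.stalk x) ∧ UniqueFactorizationMonoid (X.presheaf.stalk x)) :
    BlowUp.IsEffCartierIdeal (Scheme.IdealSheafData.vanishingIdeal (⟨(U : Set X)ᶜ, U.2.isClosed_compl⟩ : Closeds X)) := by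
  let C : Closeds X := ⟨(U : Set X)ᶜ, U.2.isClosed_compl⟩
  set 𝓘 := Scheme.IdealSheafData.vanishingIdeal C
  have hsupp : (𝓘.support : Set X) = (U : Set X)ᶜ := Scheme.IdealSheafData.coe_support_vanishingIdeal _
  refine (IdealSh.CodimOne.isEffCartierIdeal 𝓘 (fun z hz => ?_) (fun z hz => ?_)
    (fun x hx => hufd x ((Set.ext_iff.mp hsupp x).mp hx)))
  · exact (WeakAssSch.isWeakAssPoint_unit_iff_maximal z).mp
      ((WeakAssSch.isWeakAssPoint_unit_iff_isAssociatedPrime z).mpr hz)
  set x := 𝓘.subschemeι z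
  have hxU : x ∉ U := (Set.ext_iff.mp hsupp x).mp (by
    rw [← Scheme.IdealSheafData.range_subschemeι]
    exact ⟨z, rfl⟩)
  have hgen : ∀ y : X, y ⤳ x → y ∉ U → y = x := by
    intro y hy hyU
    obtain ⟨z', rfl⟩ : y ∈ Set.range 𝓘.subschemeι := by
      rw [Scheme.IdealSheafData.range_subschemeι]
      exact (Set.ext_iff.mp hsupp y).mpr hyU
    exact congrArg _ (hz z' (𝓘.subschemeι.isClosedEmbedding.isInducing.specializes_iff.mp hy))
  obtain ⟨_, ⟨V, hV, rfl⟩, hxV, -⟩ :=
    X.isBasis_affineOpens.exists_subset_of_mem_open (Set.mem_univ x) isOpen_univ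
  replace hV : IsAffineOpen V := hV
  haveI : IsNoetherianRing Γ(X, V) := IsLocallyNoetherian.component_noetherian ⟨V, hV⟩
  set p := hV.primeIdealOf ⟨x, hxV⟩
  have hU' : IsAffineOpen (hV.fromSpec ⁻¹ᵁ U) := by
    have e : hV.fromSpec ⁻¹ᵁ U = hV.fromSpec ⁻¹ᵁ (U ⊓ V) := by
      rw [Scheme.Hom.preimage_inf, hV.fromSpec_preimage_self, inf_top_eq]
    rw [e]
    exact (hΔ U V hU hV).preimage_of_isOpenImmersion _ (by rw [hV.opensRange_fromSpec]; exact inf_le_right)
  have hle : p.asIdeal.height ≤ 1 := by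
    refine S5161.result Γ(X, V) (hV.fromSpec ⁻¹ᵁ U) hU' p ?_ fun q hq hqU => ?_
    · change ¬ hV.fromSpec p ∈ U
      rw [hV.fromSpec_primeIdealOf]
      exact hxU
    · have hsp : hV.fromSpec q ⤳ hV.fromSpec p :=
        ((PrimeSpectrum.le_iff_specializes q p).mp hq).map hV.fromSpec.continuous
      rw [hV.fromSpec_primeIdealOf] at hsp
      exact hV.fromSpec.isOpenEmbedding.injective
        ((hgen _ hsp hqU).trans (hV.fromSpec_primeIdealOf ⟨x, hxV⟩).symm)
  letI : Algebra Γ(X, V) (X.presheaf.stalk x) := (X.presheaf.germ V x hxV).hom.toAlgebra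
  haveI : IsLocalization.AtPrime (X.presheaf.stalk x) p.asIdeal := hV.isLocalization_stalk ⟨x, hxV⟩
  rw [IsLocalization.AtPrime.ringKrullDim_eq_height p.asIdeal]
  have hne : p.asIdeal.height ≠ 0 := by
    intro h0
    refine hxU (Groth.Agent.S1687.mem_of_dense U hdense x fun y hy => ?_)
    have hy' : y ∈ Set.range (X.fromSpecStalk x) := by rwa [Scheme.range_fromSpecStalk]
    obtain ⟨q, rfl⟩ := hy'
    haveI : Ring.KrullDimLE 0 (X.presheaf.stalk x) := by
      rw [Ring.krullDimLE_iff, IsLocalization.AtPrime.ringKrullDim_eq_height p.asIdeal, h0]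
      rfl
    haveI := q.isPrime
    have hm := Ring.KrullDimLE.eq_maximalIdeal_of_isPrime q.asIdeal
    rw [show q = IsLocalRing.closedPoint (X.presheaf.stalk x) from PrimeSpectrum.ext hm,
      Scheme.fromSpecStalk_closedPoint]
  rw [le_antisymm hle (ENat.one_le_iff_ne_zero.mpr hne)]
  rfl


open Groth.Agent.AlgSp.CartierDesc Groth.Agent.IdealSh in
/-- The reduced complement of a dense affine open in a regular separated space is effective Cartier. -/
theorem exists_effCartier_compl [S.IsSeparated] (X : Space S)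
    (hreg : EtaleLocally (fun U => IsLocallyNoetherian U ∧ ∀ u : ↥U, IsRegularLocalRing ↥(U.presheaf.stalk u)) X.obj)
    (hsep : IsSeparatedSp X.obj) (T : Over S) [IsAffine T.left] (j : (yon S).obj T ⟶ X.obj)
    (hj : RepWith @IsOpenImmersion j) (hdense : Dense (Set.range (Points.ofPt j))) :
    ∃ (D : Space S) (i : D ⟶ X), IsEffCartierSub i.hom ∧
      Set.range (Points.map i.hom) = (Set.range (Points.ofPt j))ᶜ := by
  obtain ⟨V, φ, hφ, hφs, hVn, hVr⟩ := hreg
  have hje : RepWith @Etale j :=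
    Groth.Agent.AlgSp.repWith_mono (P := @IsOpenImmersion)
      (fun g hg => have : IsOpenImmersion g := hg; (inferInstance : Etale g)) hj
  obtain ⟨D, i, hD, hi, hrange, hred⟩ := Groth.Agent.AlgSpB.exists_redInduced X.property
    (Set.range (Points.ofPt j))ᶜ (Groth.Agent.AlgSpB.isOpenMap_ofPt hje).isOpen_range.isClosed_compl
  refine ⟨⟨D, hD⟩, ObjectProperty.homMk i, ⟨hi, ?_⟩, hrange⟩
  obtain ⟨I, fst, hI⟩ := exists_ideal hi φ
  refine ⟨V, φ, I, fst, hφ, hφs, hI, EffCartier.of_openCover fun x => ?_⟩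
  obtain ⟨W, hW, hxW, -⟩ := exists_isAffineOpen_mem_and_subset (x := x) (U := ⊤) trivial
  refine ⟨W, hxW, ?_⟩
  let WV : Over S := Over.mk (W.ι ≫ V.hom)
  let g : WV ⟶ V := Over.homMk W.ι rfl
  have : IsAffine WV.left := hW
  have : Etale g.left := inferInstanceAs (Etale W.ι)
  have hge : RepWith @Etale ((yon S).map g ≫ φ) := Groth.Agent.AlgSpB.repWith_etale_map_comp g hφ
  obtain ⟨K, f, hK⟩ := exists_ideal hi ((yon S).map g ≫ φ)
  change BlowUp.IsEffCartierIdeal (I.comap g.left)
  rw [comap_eq g hI hK]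
  have : IsReduced K.subscheme :=
    Groth.Agent.AlgSp.SchImageRep.isReduced_chart hD hred f (MorphismProperty.of_isPullback hK.flip hge)
  obtain ⟨P, p, q, hP, sP⟩ := exists_affine_pullback hsep j ((yon S).map g ≫ φ)
  have : IsOpenImmersion q.left := hj.2 _ _ _ sP
  have hU : IsAffineOpen q.left.opensRange := isAffineOpen_opensRange q.left
  have hq : (q.left.opensRange : Set WV.left) = Points.ofPt ((yon S).map g ≫ φ) ⁻¹' Set.range (Points.ofPt j) :=
    by simpa [Set.image_univ] using (Groth.Agent.AlgSpB.preimage_range_ofPt sP Set.univ).symm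
  have hker : K = Scheme.IdealSheafData.vanishingIdeal
      (⟨(q.left.opensRange : Set WV.left)ᶜ, q.left.opensRange.2.isClosed_compl⟩ : Closeds WV.left) := by
    rw [← K.ker_subschemeι]
    refine Groth.Agent.RedSub.ker_eq_vanishingIdeal _ _ ?_
    change Set.range (subι WV K).left = _
    rw [Groth.Agent.AlgSpB.range_snd_eq hK, hrange, Set.preimage_compl, ← hq]
    rfl
  rw [hker]
  have : IsNoetherian WV.left :=
    have : IsLocallyNoetherian WV.left := isLocallyNoetherian_of_isOpenImmersion W.ι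
    { }
  refine isEffCartierIdeal_vanishingIdeal_compl WV.left (fun A B hA hB => hA.inf hB) _ hU ?_ fun y _ => ?_
  · rw [hq]
    exact hdense.preimage (Groth.Agent.AlgSpB.isOpenMap_ofPt hge)
  · have := hVr (g.left y)
    obtain ⟨h1, h2⟩ := uniqueFactorizationMonoid_of_regular (V.left.presheaf.stalk (g.left y))
    let e := (asIso (W.ι.stalkMap y)).commRingCatIsoToRingEquiv
    exact ⟨e.toMulEquiv.isDomain_iff.1 h1, (e.toMulEquiv.uniqueFactorizationMonoid_iff).1 h2⟩


end Groth.Agent.AlgSpReg
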