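import Groth.Agent.AlgSpReg.BlowUpSp
import Groth.Agent.BlowComp.Main
import Groth.Agent.AlgSpB.IdealApprox.Main
import Groth.Agent.AlgSpEN.StrataSq

/-!
# Composites of blow-ups of algebraic spaces
-/

set_option autoImplicit false
set_option linter.style.haveILetI false
set_option backward.isDefEq.respectTransparency false
set_option backward.isDefEq.respectTransparency.types false

universe u

open CategoryTheory CategoryTheory.Limits AlgebraicGeometry

namespace Groth.Agent.AlgSpReg.BlowUpComp

open Groth.Agent.IdealSh Groth.Agent.BlowUp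

/-- The support of the product of the centre with a twisted pullback. -/
theorem support_mul_eq {X X' : Scheme.{u}} {b : X' ⟶ X} {𝓘 : X.IdealSheafData} (hb : BlowUp.IsBlowUp b 𝓘)
    {N : ℕ} {M : X.IdealSheafData} {𝓙 : X'.IdealSheafData} (hMc : M.comap b = (𝓘.comap b) ^ N * 𝓙) :
    ((𝓘 * M).support : Set X) = (𝓘.support : Set X) ∪ (fun x' => b x') '' (𝓙.support : Set X') := by
  have hiff : ∀ x' : X', b x' ∉ 𝓘.support → (b x' ∈ M.support ↔ x' ∈ 𝓙.support) := by
    intro x' hx'
    have h1 : x' ∈ (M.comap b).support ↔ b x' ∈ M.support := by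
      rw [Scheme.IdealSheafData.support_comap]; rfl
    rw [← h1, hMc, Scheme.IdealSheafData.support_mul]
    refine ⟨fun h => h.resolve_left fun hE => ?_, Or.inr⟩
    by_cases hN : N = 0
    · subst hN
      rw [pow_zero, Scheme.IdealSheafData.one_eq_top, Scheme.IdealSheafData.support_top] at hE
      exact hE.elim
    · rw [Scheme.IdealSheafData.support_pow _ _ hN, Scheme.IdealSheafData.support_comap] at hE
      exact hx' hE
  rw [Scheme.IdealSheafData.support_mul, TopologicalSpace.Closeds.coe_sup]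
  refine Set.Subset.antisymm ?_ ?_
  · rintro x (hx | hx)
    · exact Or.inl hx
    by_cases hxI : x ∈ (𝓘.support : Set X)
    · exact Or.inl hxI
    have := Basic.isIso_restrict hb 𝓘.support.compl disjoint_compl_left
    obtain ⟨w, hw⟩ := (b ∣_ 𝓘.support.compl).homeomorph.surjective ⟨x, hxI⟩
    have hbw : b ((b ⁻¹ᵁ 𝓘.support.compl).ι w) = x := by
      rw [← Scheme.Hom.comp_apply, ← morphismRestrict_ι, Scheme.Hom.comp_apply]
      exact congrArg Subtype.val hw
    refine Or.inr ⟨_, (hiff _ ?_).mp ?_, hbw⟩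
    · rw [hbw]; exact hxI
    · rw [hbw]; exact hx
  · rintro x (hx | ⟨x', hx', rfl⟩)
    · exact Or.inl hx
    by_cases hxI : b x' ∈ (𝓘.support : Set X)
    · exact Or.inl hxI
    · exact Or.inr ((hiff x' hxI).mpr hx')

open _root_.AlgSp
open Groth.Agent.AlgSp.CartierDesc (subOver subι exists_ideal)
open Groth.Agent.AlgSpReg.BlowUpSp

/-- A composite of blow-ups of a quasi-compact quasi-separated space is a blow-up. -/
theorem exists_comp {S : Scheme.{u}} [QuasiSeparatedSpace ↥S] (X : AlgSp.Space S) {X' X'' Z Z' : Sp S}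
    (hX' : IsAlgSpace X') (hX'' : IsAlgSpace X'') (hqc : IsQuasiCompactSp X.obj) (hqs : IsQuasiSeparatedSp X.obj)
    {i : Z ⟶ X.obj} (hi : RepWith (@IsClosedImmersion ⊓ @LocallyOfFinitePresentation) i) {b : X' ⟶ X.obj}
    (hb : IsBlowUpSp b i) {i' : Z' ⟶ X'} (hi' : RepWith (@IsClosedImmersion ⊓ @LocallyOfFinitePresentation) i')
    {b' : X'' ⟶ X'} (hb' : IsBlowUpSp b' i') :
    ∃ (Y : Sp S) (iY : Y ⟶ X.obj), IsAlgSpace Y ∧
      RepWith (@IsClosedImmersion ⊓ @LocallyOfFinitePresentation) iY ∧
      Set.range (Points.map iY) = Set.range (Points.map i) ∪ Points.map b '' Set.range (Points.map i') ∧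
      IsBlowUpSp (b' ≫ b) iY := by
  have hic : RepWith @IsClosedImmersion i := Groth.Agent.AlgSp.repWith_mono (fun g hg => hg.1) hi
  have hic' : RepWith @IsClosedImmersion i' := Groth.Agent.AlgSp.repWith_mono (fun g hg => hg.1) hi'
  obtain ⟨U, p, hUaff, hp, hps⟩ := Groth.Agent.AlgSpEN.exists_affine_atlas X hqc
  obtain ⟨I, fst, sqI⟩ := exists_ideal hic p
  obtain ⟨U', bU, p', hsq, hbU⟩ := BlowUpSp.exists_chart X.property hX' hic hb hp sqI
  have hp' : RepWith @Etale p' := MorphismProperty.of_isPullback hsq.flip hp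
  have hps' : RepWith @Surjective p' := MorphismProperty.of_isPullback hsq.flip hps
  obtain ⟨J, fst', sqJ⟩ := exists_ideal hic' p'
  have hIfg := isFiniteTypeIdeal_of_chart hi sqI
  have hJfg := isFiniteTypeIdeal_of_chart hi' sqJ
  have : IsProper bU.left := Groth.Agent.BlowUpProper.Basic.isProper hbU hIfg
  obtain ⟨N, M₀, hM₀, hM₀c⟩ := Groth.Agent.BlowComp.Main.exists_ideal hbU hIfg J hJfg
  let E := I.comap bU.left
  let T := E ^ N * J
  obtain ⟨R, t, s, sqR⟩ := Groth.Agent.AlgSp.exists_isPullback_yon X.property.diag p p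
  have het : Etale t.left := hp.2 _ _ _ sqR.flip
  have hes : Etale s.left := hp.2 _ _ _ sqR
  -- the two lifts to the blow-up
  let R' := pullback t bU
  let bR : R' ⟶ R := pullback.fst t bU
  let t' : R' ⟶ U' := pullback.snd t bU
  have hR : IsPullback bR t' t bU := IsPullback.of_hasPullback _ _
  have hws : ((yon S).map t' ≫ p') ≫ b = (yon S).map (bR ≫ s) ≫ p := by
    rw [Category.assoc, hsq.w, ← Functor.map_comp_assoc, ← hR.w, Functor.map_comp, Functor.map_comp,
      Category.assoc, Category.assoc, sqR.w]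
  obtain ⟨s', hs'⟩ := (yon S).map_surjective (hsq.lift ((yon S).map t' ≫ p') ((yon S).map (bR ≫ s)) hws)
  have hs'1 : (yon S).map s' ≫ p' = (yon S).map t' ≫ p' := by rw [hs', hsq.lift_fst]
  have hs'2 : s' ≫ bU = bR ≫ s := (yon S).map_injective (by rw [Functor.map_comp, hs', hsq.lift_snd])
  have hR' : IsPullback bR s' s bU := by
    refine IsPullback.of_map (yon S) hs'2.symm (IsPullback.of_right ?_ ?_ hsq).flip
    · rw [← sqR.w, hs'1]
      exact (hR.map (yon S)).flip.paste_horiz hsq
    · rw [← Functor.map_comp, ← Functor.map_comp, hs'2]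
  have hRs : IsPullback bR.left t'.left t.left bU.left := hR.map (Over.forget S)
  have hRs' : IsPullback bR.left s'.left s.left bU.left := hR'.map (Over.forget S)
  have hI : I.comap t.left = I.comap s.left :=
    Groth.Agent.AlgSp.ClosedSub.comap_eq_comap hic sqR.w sqI
  have hT : T.comap t'.left = T.comap s'.left := by
    simp only [T, E, Comap.comap_mul, Comap.comap_pow, ← Scheme.IdealSheafData.comap_comp]
    rw [← hRs.w, ← hRs'.w, Scheme.IdealSheafData.comap_comp, Scheme.IdealSheafData.comap_comp, hI,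
      Groth.Agent.AlgSp.ClosedSub.comap_eq_comap hic' hs'1.symm sqJ]
  have hTinv : (T.map bU.left).comap t.left = (T.map bU.left).comap s.left := by
    rw [Groth.Agent.AlgSpB.IdealApprox.comap_map hRs.flip, Groth.Agent.AlgSpB.IdealApprox.comap_map hRs'.flip, hT]
  obtain ⟨M, hM, hM₀M, hMT, hMinv⟩ := Groth.Agent.AlgSpB.IdealApprox.exists_fg_invariant hqc hqs hp hps sqR
    hM₀ hTinv (Scheme.IdealSheafData.le_map_iff_comap_le.2 hM₀c.le)
  have hMc : M.comap bU.left = E ^ N * J :=
    le_antisymm (Scheme.IdealSheafData.le_map_iff_comap_le.1 hMT)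
      (hM₀c.ge.trans ((Scheme.IdealSheafData.map_gc bU.left).monotone_l hM₀M))
  -- the centre
  let K := I * M
  have hK : K.comap t.left = K.comap s.left := by
    simp only [K, Comap.comap_mul, hI, hMinv]
  have hKc : K.comap bU.left = E ^ (N + 1) * J := by
    simp only [K, Comap.comap_mul, hMc]
    rw [← mul_assoc, pow_succ']
  obtain ⟨Y, iY, fY, hY, hiY, sqY⟩ := Groth.Agent.AlgSp.ClosedSub.exists_closed hp hps sqR K hK
  refine ⟨Y, iY, hY, ?_, ?_, ?_, ?_⟩
  · refine Groth.Agent.AlgSp.repWith_inf hiY ?_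
    have : LocallyOfFinitePresentation (subι U K).left :=
      (Groth.Agent.LimLib.lfp_subschemeι_iff K).2 (FinType.mul hIfg hM)
    exact Groth.Agent.AlgSp.InfDescent.repWith_of_baseChange @LocallyOfFinitePresentation hiY.1 hp hps sqY
      ((repWith_yon_map_iff _ _).2 this)
  · rw [range_eq hps sqY, range_eq hps sqI, range_eq hps' sqJ, support_mul_eq hbU hMc, Set.image_union,
      Set.image_image, Set.image_image]
    congr 1
    refine Set.image_congr fun x _ => ?_
    rw [Points.map_ofPt, hsq.w, Groth.Agent.AlgSpB.ofPt_map_comp]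
  · obtain ⟨U'', bU', p'', hsq', hbU'⟩ := BlowUpSp.exists_chart hX' hX'' hic' hb' hp' sqJ
    refine invImage_of_chart hiY sqY (MorphismProperty.of_isPullback hsq'.flip hp')
      (MorphismProperty.of_isPullback hsq'.flip hps') (bU' ≫ bU) ?_ ?_
    · rw [← Category.assoc, hsq'.w, Category.assoc, hsq.w, Functor.map_comp, Category.assoc]
    · change BlowUp.IsEffCartierIdeal (K.comap (bU'.left ≫ bU.left))
      rw [Scheme.IdealSheafData.comap_comp, hKc, mul_comm]
      exact (Basic.mul_effCartier hbU' (EffCartier.pow hbU.1 (N + 1))).1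
  · intro Y₀ hY₀ g hg
    obtain ⟨W, a, m, ha, has, w⟩ := Groth.Agent.AlgSp.exists_chart_lift hY₀ X.property g p hp hps
    have hEK : BlowUp.IsEffCartierIdeal (K.comap m.left) := isEffCartierIdeal_of_invImage hiY sqY hg ha m w
    have hgI : InvImageIsEffCartier i g := by
      refine invImage_of_chart hic sqI ha has m w ?_
      simp only [K, Comap.comap_mul] at hEK
      exact EffCartier.factor_left hEK
    obtain ⟨h, hh, hhu⟩ := hb.2 hY₀ g hgI
    obtain ⟨k, hk⟩ := (yon S).map_surjective (hsq.lift (a ≫ h) ((yon S).map m) (by rw [Category.assoc, hh, w]))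
    have hk1 : a ≫ h = (yon S).map k ≫ p' := by rw [hk, hsq.lift_fst]
    have hk2 : k ≫ bU = m := (yon S).map_injective (by rw [Functor.map_comp, hk, hsq.lift_snd])
    have hgJ : InvImageIsEffCartier i' h := by
      refine invImage_of_chart hic' sqJ ha has k hk1 ?_
      rw [← hk2, Over.comp_left, Scheme.IdealSheafData.comap_comp, hKc, Comap.comap_mul] at hEK
      exact EffCartier.factor_right hEK
    obtain ⟨h', hh', hh'u⟩ := hb'.2 hY₀ h hgJ
    refine ⟨h', by dsimp only; rw [← Category.assoc, hh', hh], fun k' hk' => hh'u k' ?_⟩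
    exact hhu _ (by dsimp only at hk' ⊢; rw [Category.assoc]; exact hk')

end Groth.Agent.AlgSpReg.BlowUpComp
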