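import Groth.Agent.BlowUp.Glue
import Groth.Agent.BlowUp.Basic
import Groth.Agent.BlowUpProper.Basic
import Groth.Agent.AlgSp.CartierDesc
import Groth.Agent.AlgSp.InfSpace
import Groth.Agent.AlgSp.ClosedSub
import Groth.Agent.AlgSpD.ProperMor
import Groth.Agent.LimLib.ClosedApprox
import Groth.Prelude.Def_W4stk3spdivBlowUp

/-!
# Blow-ups of algebraic spaces on charts
-/

set_option autoImplicit false
set_option linter.style.haveILetI false
set_option backward.isDefEq.respectTransparency false
set_option backward.isDefEq.respectTransparency.types false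

universe u

open CategoryTheory CategoryTheory.Limits AlgebraicGeometry

namespace Groth.Agent.AlgSpReg.BlowUpSp

open _root_.AlgSp
open Groth.Agent.AlgSp.CartierDesc (subOver subι exists_ideal comap_eq isEffCartierIdeal_of_chart)

variable {S : Scheme.{u}} {X Y Z : Sp S} {i : Z ⟶ X} {U : Over S} {p : (yon S).obj U ⟶ X}
  {I : U.left.IdealSheafData} {fst : (yon S).obj (subOver U I) ⟶ Z}

/-- An effective Cartier inverse image gives effective Cartier ideals on etale charts. -/
theorem isEffCartierIdeal_of_invImage (hi : RepWith @IsClosedImmersion i)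
    (sq : IsPullback fst ((yon S).map (subι U I)) i p) {g : Y ⟶ X} (hg : InvImageIsEffCartier i g)
    {W : Over S} {a : (yon S).obj W ⟶ Y} (ha : RepWith @Etale a) (m : W ⟶ U) (w : a ≫ g = (yon S).map m ≫ p) :
    BlowUp.IsEffCartierIdeal (I.comap m.left) := by
  obtain ⟨P, f, s, hP, hE⟩ := hg
  have hs : RepWith @IsClosedImmersion s := MorphismProperty.of_isPullback hP hi
  obtain ⟨J, fJ, hJ⟩ := exists_ideal hs a
  have h := hJ.paste_horiz hP
  rw [w] at h
  rw [comap_eq m sq h]
  exact isEffCartierIdeal_of_chart hs hE ha hJ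

/-- An inverse image is effective Cartier if its ideal on an atlas is. -/
theorem invImage_of_chart (hi : RepWith @IsClosedImmersion i)
    (sq : IsPullback fst ((yon S).map (subι U I)) i p) {g : Y ⟶ X}
    {W : Over S} {a : (yon S).obj W ⟶ Y} (ha : RepWith @Etale a) (has : RepWith @Surjective a) (m : W ⟶ U)
    (w : a ≫ g = (yon S).map m ≫ p) (h : BlowUp.IsEffCartierIdeal (I.comap m.left)) :
    InvImageIsEffCartier i g := by
  have hP : IsPullback (pullback.fst i g) (pullback.snd i g) i g := IsPullback.of_hasPullback _ _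
  have hs : RepWith @IsClosedImmersion (pullback.snd i g) := MorphismProperty.of_isPullback hP hi
  obtain ⟨J, fJ, hJ⟩ := exists_ideal hs a
  have h' := hJ.paste_horiz hP
  rw [w] at h'
  refine ⟨_, _, _, hP, hs, W, a, J, fJ, ha, has, hJ, ?_⟩
  rw [← comap_eq m sq h']
  exact h

variable {X' : Sp S} {b : X' ⟶ X}

/-- On a chart a blow-up of a space is the blow-up of the scheme. -/
theorem exists_chart (hX : IsAlgSpace X) (hX' : IsAlgSpace X') (hi : RepWith @IsClosedImmersion i)
    (hb : IsBlowUpSp b i) (hp : RepWith @Etale p) (sq : IsPullback fst ((yon S).map (subι U I)) i p) :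
    ∃ (U' : Over S) (bU : U' ⟶ U) (p' : (yon S).obj U' ⟶ X'),
      IsPullback p' ((yon S).map bU) b p ∧ BlowUp.IsBlowUp bU.left I := by
  obtain ⟨B, bl, hbl⟩ := Groth.Agent.BlowUp.Glue.exists_isBlowUp U.left I
  let U' : Over S := Over.mk (bl ≫ U.hom)
  let bU : U' ⟶ U := Over.homMk bl rfl
  have hg : InvImageIsEffCartier i ((yon S).map bU ≫ p) :=
    invImage_of_chart hi sq (repWith_id @Etale U') (repWith_id @Surjective U') bU (Category.id_comp _) hbl.1
  obtain ⟨p', hp', -⟩ := hb.2 (IsAlgSpace.yon_obj U') _ hg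
  have hP : IsPullback (pullback.fst b p) (pullback.snd b p) b p := IsPullback.of_hasPullback _ _
  let l : (yon S).obj U' ⟶ pullback b p := hP.lift p' ((yon S).map bU) hp'
  have hPa : IsAlgSpace (pullback b p) :=
    Groth.Agent.AlgSp.isAlgSpace_pullback hX hX' (IsAlgSpace.yon_obj U) b p
  obtain ⟨W, c, hc, hcs⟩ := hPa.atlas
  have hfe : RepWith @Etale (pullback.fst b p) := MorphismProperty.of_isPullback hP.flip hp
  have hce : RepWith @Etale (c ≫ pullback.fst b p) := (RepWith _).comp_mem _ _ hc hfe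
  obtain ⟨w, hw⟩ := (yon S).map_surjective (c ≫ pullback.snd b p)
  have hwb : (c ≫ pullback.fst b p) ≫ b = (yon S).map w ≫ p := by
    rw [hw, Category.assoc, Category.assoc, hP.w]
  have hwE := isEffCartierIdeal_of_invImage hi sq hb.1 hce w hwb
  obtain ⟨k₀, hk₀, -⟩ := hbl.2 W.left w.left hwE
  let K : W ⟶ U' := Over.homMk k₀ (by
    change k₀ ≫ bl ≫ U.hom = W.hom
    rw [← Category.assoc, hk₀, Over.w w])
  have hK : K ≫ bU = w := Over.OverMorphism.ext hk₀
  obtain ⟨R, t, s, sqR⟩ := Groth.Agent.AlgSp.exists_isPullback_yon hPa.diag c c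
  have het : Etale t.left := hc.2 _ _ _ sqR.flip
  have hts : t ≫ K = s ≫ K := by
    refine Over.OverMorphism.ext (Groth.Agent.BlowUp.Basic.hom_ext hbl ?_ ?_)
    · change BlowUp.IsEffCartierIdeal (I.comap ((t.left ≫ k₀) ≫ bl))
      rw [Category.assoc, hk₀, Scheme.IdealSheafData.comap_comp]
      exact Groth.Agent.IdealSh.EffCartier.comap_of_flat t.left hwE
    · have h1 : t ≫ w = s ≫ w := (yon S).map_injective (by
        rw [Functor.map_comp, Functor.map_comp, hw, ← Category.assoc, ← Category.assoc, sqR.w])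
      change (t.left ≫ k₀) ≫ bl = (s.left ≫ k₀) ≫ bl
      rw [Category.assoc, Category.assoc, hk₀, ← Over.comp_left, h1, Over.comp_left]
  obtain ⟨l', hl'⟩ := Groth.Agent.AlgSp.InfSpace.exists_desc hc hcs ((yon S).map K) fun T a' b' h => by
    have ha := sqR.lift_fst a' b' h
    have hb' := sqR.lift_snd a' b' h
    rw [← ha, Category.assoc, ← Functor.map_comp, hts, Functor.map_comp, reassoc_of% hb']
  have hl'b : l' ≫ (yon S).map bU = pullback.snd b p := by
    refine Groth.Agent.AlgSp.InfSpace.hom_ext_cover_sp hc hcs ?_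
    rw [← Category.assoc, hl', ← Functor.map_comp, hK, hw]
  have hl'p : l' ≫ p' = pullback.fst b p := by
    refine (hb.2 hPa (pullback.fst b p ≫ b) (invImage_of_chart hi sq hc hcs w
      (by rw [← Category.assoc, hwb]) hwE)).unique ?_ rfl
    rw [Category.assoc, hp', ← Category.assoc, hl'b, hP.w]
  have h2 : l' ≫ l = 𝟙 _ := by
    apply hP.hom_ext
    · rw [Category.assoc, hP.lift_fst, hl'p, Category.id_comp]
    · rw [Category.assoc, hP.lift_snd, hl'b, Category.id_comp]
  have h1 : l ≫ l' = 𝟙 _ := by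
    obtain ⟨e, he⟩ := (yon S).map_surjective (l ≫ l')
    have he' : e ≫ bU = bU := (yon S).map_injective (by
      rw [Functor.map_comp, he, Category.assoc, hl'b, hP.lift_snd])
    have h3 : e.left ≫ bl = bl := congrArg CommaMorphism.left he'
    have : e = 𝟙 U' := by
      refine Over.OverMorphism.ext (Groth.Agent.BlowUp.Basic.hom_ext hbl ?_ ?_)
      · rw [h3]; exact hbl.1
      · rw [h3]; exact (Category.id_comp _).symm
    rw [← he, this, CategoryTheory.Functor.map_id]
  exact ⟨U', bU, p', IsPullback.of_iso_pullback ⟨hp'⟩ ⟨l, l', h1, h2⟩ (hP.lift_fst _ _ _) (hP.lift_snd _ _ _), hbl⟩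

/-- The ideal of a finitely presented closed subspace on a chart is of finite type. -/
theorem isFiniteTypeIdeal_of_chart (hi : RepWith (@IsClosedImmersion ⊓ @LocallyOfFinitePresentation) i)
    (sq : IsPullback fst ((yon S).map (subι U I)) i p) : BlowUp.IsFiniteTypeIdeal I :=
  (Groth.Agent.LimLib.lfp_subschemeι_iff I).1 (hi.2 _ _ _ sq).2

/-- A proper morphism of schemes is a proper morphism of spaces. -/
theorem isProperMor_yon_map {U V : Over S} (g : U ⟶ V) (hg : IsProper g.left) :
    IsProperMor ((yon S).map g) :=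
  ⟨(isSeparatedMor_yon_map_iff g).2 inferInstance,
    ⟨Groth.Agent.AlgSpCov.locP_of_repWith Groth.Agent.AlgSpCov.etaleLocal_locallyOfFiniteType
        ((repWith_yon_map_iff _ g).2 inferInstance),
      Groth.Agent.AlgSp.isQuasiCompactMor_of_repWith (IsAlgSpace.yon_obj V)
        ((repWith_yon_map_iff _ g).2 inferInstance)⟩,
    Groth.Agent.AlgSp.isUnivClosedMor_of_repWith ((repWith_yon_map_iff _ g).2 inferInstance)⟩

end Groth.Agent.AlgSpReg.BlowUpSp

namespace Groth.Agent.AlgSpReg.BlowUpSp

open _root_.AlgSp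
open Groth.Agent.AlgSp.CartierDesc (subOver subι)

variable {S : Scheme.{u}}

/-- The points of a closed subspace on an atlas. -/
theorem range_eq {X Z : Sp S} {i : Z ⟶ X} {U : Over S} {p : (yon S).obj U ⟶ X} (hps : RepWith @Surjective p)
    {I : U.left.IdealSheafData} {fst : (yon S).obj (subOver U I) ⟶ Z}
    (sq : IsPullback fst ((yon S).map (subι U I)) i p) :
    Set.range (Points.map i) = Points.ofPt p '' (I.support : Set U.left) := by
  refine Set.Subset.antisymm ?_ ?_
  · rintro x ⟨z, rfl⟩
    obtain ⟨v, hv⟩ := Groth.Agent.AlgSpB.surjective_ofPt hps (Points.map i z)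
    obtain ⟨q, -, hq⟩ := Groth.Agent.AlgSpB.exists_of_isPullback sq z (Points.ofScheme U v)
      (by rw [Points.map_ofPt, Category.id_comp, hv])
    refine ⟨v, ?_, hv⟩
    rw [← I.range_subschemeι]
    refine ⟨Points.toScheme (subOver U I) q, ?_⟩
    change (subι U I).left (Points.toScheme (subOver U I) q) = v
    rw [← Points.toScheme_ofPt, Points.ofPt_eq_map_ofScheme, Points.ofScheme_toScheme, hq,
      Points.toScheme_ofScheme]
  · rintro _ ⟨v, hv, rfl⟩
    rw [← I.range_subschemeι] at hv
    obtain ⟨d, rfl⟩ := hv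
    refine ⟨Points.ofPt fst d, ?_⟩
    rw [Points.map_ofPt, sq.w, Groth.Agent.AlgSpB.ofPt_map_comp]
    rfl

end Groth.Agent.AlgSpReg.BlowUpSp
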