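import Groth.Agent.CAlgA.ValuationPD
import Groth.Agent.RegLoc.UFD
import Groth.Agent.S1351
import Groth.Agent.S14726
import Groth.Agent.Omega.GeomRegular
import Groth.Agent.EGA4Lib.FibreLoc
import Groth.Agent.S1182

/-!
# Saturations of invertible ideals on smooth algebras over valuation rings are invertible
-/

set_option autoImplicit false
set_option linter.style.haveILetI false

universe u

open TensorProduct IsLocalRing CategoryTheory

namespace Groth.Agent.AlgSpReg.CartierExt

variable {V : Type u} [CommRing V]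

/-- `A ⧸ I` is torsion free over `V`. -/
def IsSat (V : Type u) [CommRing V] {A : Type u} [CommRing A] [Algebra V A] (I : Ideal A) : Prop :=
  ∀ v : V, v ≠ 0 → ∀ z : A, algebraMap V A v * z ∈ I → z ∈ I

/-- `I` is principal near the prime `P`, by an element nonzero there. -/
def IsPrincipalAt {A : Type u} [CommRing A] (I : Ideal A) (P : Ideal A) : Prop :=
  ∃ b ∈ I, (∀ t ∉ P, t * b ≠ 0) ∧ ∃ s ∉ P, ∀ z ∈ I, b ∣ s * z

section

variable [IsDomain V] [ValuationRing V]

theorem flat_quotient {A : Type u} [CommRing A] [Algebra V A] {I : Ideal A} (hI : IsSat V I) :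
    Module.Flat V (A ⧸ I) := by
  rw [Module.Flat.flat_iff_torsion_eq_bot_of_isBezout, eq_bot_iff]
  intro x hx
  obtain ⟨⟨v, hv⟩, hvx⟩ := (Submodule.mem_torsion_iff x).1 hx
  obtain ⟨z, rfl⟩ := Ideal.Quotient.mk_surjective x
  refine (Submodule.mem_bot V).2 (Ideal.Quotient.eq_zero_iff_mem.2 ?_)
  refine hI v (nonZeroDivisors.ne_zero hv) z (Ideal.Quotient.eq_zero_iff_mem.1 ?_)
  rw [← Algebra.smul_def]
  exact hvx

theorem fg_of_isSat {A : Type u} [CommRing A] [Algebra V A] [Algebra.EssFiniteType V A] {I : Ideal A}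
    (hI : IsSat V I) : I.FG := by
  have : Module.FinitePresentation A (A ⧸ I) :=
    FlatMisc.ValuationEFT.finitePresentation (A := V) (A ⧸ I) fun v x h => by
      refine (Classical.em (v = 0)).imp_right fun hv => ?_
      obtain ⟨z, rfl⟩ := Ideal.Quotient.mk_surjective x
      refine Ideal.Quotient.eq_zero_iff_mem.2 (hI v hv z (Ideal.Quotient.eq_zero_iff_mem.1 ?_))
      rw [← Algebra.smul_def]
      exact h
  have := Module.FinitePresentation.fg_ker (R := A) (Submodule.mkQ I) (Submodule.mkQ_surjective I)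
  rwa [Submodule.ker_mkQ] at this

/-- Stably free over a flat algebra, for `V`-flat modules of finite projective dimension. -/
theorem exists_stablyFree {A : Type u} [CommRing A] [Algebra V A] [Module.Flat V A] [IsLocalRing A]
    [Algebra.EssFiniteType V A] (S : Type u) [CommRing S] [Algebra A S] [Module.Flat A S] (k : ℕ) :
    ∀ (N : Type u) [AddCommGroup N] [Module A N] [Module V N] [IsScalarTower V A N]
      [Module.FinitePresentation A N] [Module.Flat V N],
      HasProjectiveDimensionLE (ModuleCat.of A N) k → Module.Projective S (S ⊗[A] N) →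
        ∃ m n : ℕ, Nonempty (((S ⊗[A] N) × (Fin m → S)) ≃ₗ[S] (Fin n → S)) := by
  induction k with
  | zero =>
    intro N _ _ _ _ _ _ hN _
    rw [RegLoc.PD.pd_zero_iff] at hN
    have : Module.Free A N := Module.free_of_flat_of_isLocalRing
    exact ⟨0, Module.finrank A N, ⟨LinearEquiv.prodUnique.trans
      ((Module.finBasis A N).baseChange S).equivFun⟩⟩
  | succ k ih =>
    intro N _ _ _ _ _ _ hN hP
    obtain ⟨r, f, hf⟩ := Module.Finite.exists_fin' A N
    obtain ⟨hKflat, hKfp⟩ := CAlgA.ValuationPD.ker_flat_and_fp (V := V) f hf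
    rw [RegLoc.PD.pd_shift f hf] at hN
    have hfS := RegLoc.PD.baseChange_surjective S f hf
    obtain ⟨s, hs⟩ := (f.baseChange S).exists_rightInverse_of_surjective (LinearMap.range_eq_top.mpr hfS)
    let eK := RegLoc.PD.kerBaseChangeEquiv S f hf
      (Module.Flat.lTensor_preserves_injective_linearMap _ (Submodule.injective_subtype _))
    let π : (S ⊗[A] (Fin r → A)) →ₗ[S] LinearMap.ker (f.baseChange S) :=
      (LinearMap.id - s ∘ₗ f.baseChange S).codRestrict _ fun x => by
        have := LinearMap.congr_fun hs (f.baseChange S x)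
        simp only [LinearMap.comp_apply, LinearMap.id_apply] at this
        simp [this]
    have hπ : ∀ x : LinearMap.ker (f.baseChange S), π x.1 = x := fun x => Subtype.ext (by simp [π, x.2])
    have : Module.Projective S (LinearMap.ker (f.baseChange S)) :=
      Module.Projective.of_split (Submodule.subtype _) π (LinearMap.ext hπ)
    obtain ⟨m, n, ⟨e⟩⟩ := ih (LinearMap.ker f) hN (Module.Projective.of_equiv eK.symm)
    let E : (S ⊗[A] (Fin r → A)) ≃ₗ[S] ((S ⊗[A] N) × (S ⊗[A] LinearMap.ker f)) :=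
      { toLinearMap := (f.baseChange S).prod (eK.symm.toLinearMap ∘ₗ π)
        invFun := fun x => s x.1 + (eK x.2).1
        left_inv := fun x => by simp [π]
        right_inv := fun x => by
          have h1 : f.baseChange S (s x.1) = x.1 := LinearMap.congr_fun hs x.1
          have h2 : f.baseChange S (eK x.2).1 = 0 := (eK x.2).2
          refine Prod.ext (by simp [h1, h2]) ?_
          change eK.symm (π (s x.1 + (eK x.2).1)) = x.2
          rw [LinearEquiv.symm_apply_eq, map_add, hπ]
          simp [π, h1, Subtype.ext_iff] }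
    exact ⟨n, r + m, ⟨((LinearEquiv.refl S (S ⊗[A] N)).prodCongr e.symm).trans <|
      (LinearEquiv.prodAssoc S _ _ _).symm.trans <|
      ((E.symm.trans ((Pi.basisFun A (Fin r)).baseChange S).equivFun).prodCongr
        (LinearEquiv.refl S (Fin m → S))).trans <|
      (LinearEquiv.sumArrowLequivProdArrow (Fin r) (Fin m) S S).symm.trans <|
      LinearEquiv.funCongrLeft S S finSumFinEquiv.symm⟩⟩

/-- Over a local domain flat over a valuation ring with regular special fibre, with contents, a saturated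
ideal which is invertible on the generic fibre is principal. -/
theorem core {A : Type u} [CommRing A] [IsDomain A] [IsLocalRing A] [Algebra V A] [Module.Flat V A]
    [Algebra.EssFiniteType V A] [IsLocalHom (algebraMap V A)]
    (hreg : IsRegularLocalRing (A ⧸ (maximalIdeal V).map (algebraMap V A)))
    (hC : ∀ a : A, a ≠ 0 → ∃ (v : V) (s t : A), s ∉ (maximalIdeal V).map (algebraMap V A) ∧
      t ∉ (maximalIdeal V).map (algebraMap V A) ∧ s * a = algebraMap V A v * t)
    (I : Ideal A) (hI : IsSat V I) (hI0 : I ≠ ⊥)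
    (S : Type u) [CommRing S] [Algebra A S]
    [IsLocalization (Algebra.algebraMapSubmonoid A (nonZeroDivisors V)) S]
    (hproj : Module.Projective S (I.map (algebraMap A S))) :
    ∃ g, I = Ideal.span {g} := by
  classical
  let pA := (maximalIdeal V).map (algebraMap V A)
  haveI := hreg
  haveI : IsDomain (A ⧸ pA) := RegLoc.isDomain _
  haveI hpA : pA.IsPrime := (Ideal.Quotient.isDomain_iff_prime _).mp ‹_›
  have hne : ∀ v : V, v ≠ 0 → algebraMap V A v ≠ 0 := fun v hv h => by
    have h1 := (Module.Flat.isSMulRegular_of_nonZeroDivisors (M := A)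
      (mem_nonZeroDivisors_of_ne_zero hv)).right_eq_zero_of_smul (x := (1 : A))
      (by rw [Algebra.smul_def, h, zero_mul])
    exact one_ne_zero h1
  have hM : Algebra.algebraMapSubmonoid A (nonZeroDivisors V) ≤ nonZeroDivisors A := by
    rintro _ ⟨v, hv, rfl⟩
    exact mem_nonZeroDivisors_of_ne_zero (hne v (nonZeroDivisors.ne_zero hv))
  haveI : IsDomain S := IsLocalization.isDomain_of_le_nonZeroDivisors S hM
  haveI : Module.Flat A S := IsLocalization.flat S (Algebra.algebraMapSubmonoid A (nonZeroDivisors V))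
  have hinj : Function.Injective (algebraMap A S) := IsLocalization.injective S hM
  -- elements outside `pA` have torsion free quotient
  have div : ∀ s, s ∉ pA → ∀ v : V, v ≠ 0 → ∀ t, s ∣ algebraMap V A v * t → s ∣ t := by
    intro s hs v hv t ht
    let u : A →ₗ[A] A := LinearMap.mulLeft A s
    obtain ⟨-, hflat⟩ := Groth.Agent.S1351.result (A := V) u (by
      rw [injective_iff_map_eq_zero]
      intro x hx
      obtain ⟨x, rfl⟩ := Submodule.Quotient.mk_surjective _ x
      rw [Submodule.mapQ_apply, Submodule.Quotient.mk_eq_zero] at hx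
      rw [Submodule.Quotient.mk_eq_zero]
      change s * x ∈ (maximalIdeal V • ⊤ : Submodule V A) at hx
      rw [Ideal.smul_top_eq_map, Submodule.restrictScalars_mem] at hx ⊢
      exact (hpA.mem_or_mem hx).resolve_left hs)
    haveI := hflat
    obtain ⟨c, hc⟩ := ht
    have h0 : v • (Submodule.Quotient.mk t : A ⧸ LinearMap.range u) = 0 := by
      rw [← Submodule.Quotient.mk_smul, Submodule.Quotient.mk_eq_zero, Algebra.smul_def]
      exact ⟨c, hc.symm⟩
    have h1 := (Module.Flat.isSMulRegular_of_nonZeroDivisors (M := A ⧸ LinearMap.range u)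
      (mem_nonZeroDivisors_of_ne_zero hv)).right_eq_zero_of_smul h0
    obtain ⟨c', hc'⟩ := (Submodule.Quotient.mk_eq_zero _).1 h1
    exact ⟨c', hc'.symm⟩
  -- `J = I S` is principal
  let J := I.map (algebraMap A S)
  have hfg : I.FG := fg_of_isSat hI
  haveI : Module.Finite A I := Module.Finite.iff_fg.2 hfg
  haveI : Module.Flat V I :=
    CAlgA.ValuationPD.flat_of_injective ((Submodule.subtype I).restrictScalars V) I.subtype_injective
  haveI : Module.FinitePresentation A I := CAlgA.ValuationPD.finitePresentation (V := V) I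
  obtain ⟨d, hd, -⟩ := RegLoc.exists_natCast_eq_ringKrullDim (A ⧸ pA)
  let μ : S ⊗[A] I →ₗ[S] S :=
    (TensorProduct.AlgebraTensorModule.rid A S S).toLinearMap ∘ₗ (Submodule.subtype I).baseChange S
  have hμ : Function.Injective μ := (TensorProduct.AlgebraTensorModule.rid A S S).injective.comp
    (Module.Flat.lTensor_preserves_injective_linearMap _ (Submodule.injective_subtype _))
  have hμr : LinearMap.range μ = J := by
    refine le_antisymm ?_ (Ideal.map_le_iff_le_comap.mpr fun z hz => ⟨1 ⊗ₜ ⟨z, hz⟩, by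
      simp [μ, Algebra.smul_def]⟩)
    rintro _ ⟨t, rfl⟩
    induction t with
    | tmul s z =>
      simp only [μ, LinearMap.comp_apply, LinearMap.baseChange_tmul, LinearEquiv.coe_coe,
        TensorProduct.AlgebraTensorModule.rid_tmul, Submodule.coe_subtype, Algebra.smul_def]
      exact Ideal.mul_mem_right _ _ (Ideal.mem_map_of_mem _ z.2)
    | zero => simp
    | add t t' ht ht' => rw [map_add]; exact Ideal.add_mem _ ht ht'
  let eJ : (S ⊗[A] I) ≃ₗ[S] J := (LinearEquiv.ofInjective μ hμ).trans (LinearEquiv.ofEq _ _ hμr)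
  obtain ⟨m, n, ⟨e⟩⟩ := exists_stablyFree (V := V) S d I
    (CAlgA.ValuationPD.pd_le_fibreDim (p := maximalIdeal V) d hreg hd I)
    (Module.Projective.of_equiv eJ.symm)
  obtain ⟨δ, hδ⟩ := RegLoc.UFD.isPrincipal_of_stablyFree J ((eJ.symm.prodCongr (LinearEquiv.refl S _)).trans e)
  -- contraction
  have hcon : ∀ z, algebraMap A S z ∈ J → z ∈ I := by
    intro z hz
    obtain ⟨⟨⟨i, hi⟩, ⟨_, w, hw, rfl⟩⟩, h⟩ :=
      (IsLocalization.mem_map_algebraMap_iff (Algebra.algebraMapSubmonoid A (nonZeroDivisors V)) S).mp hz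
    refine hI w (nonZeroDivisors.ne_zero hw) z ?_
    have h' : z * algebraMap V A w = i := hinj (by rw [map_mul]; exact h)
    rw [mul_comm, h']
    exact hi
  obtain ⟨⟨g, w⟩, hgw⟩ := IsLocalization.surj (Algebra.algebraMapSubmonoid A (nonZeroDivisors V)) δ
  have hJg : J = Ideal.span {algebraMap A S g} := by
    rw [← hgw, Ideal.span_singleton_mul_right_unit (IsLocalization.map_units S w)]
    exact hδ
  have hgI : g ∈ I := hcon g (hJg ▸ Ideal.mem_span_singleton_self _)
  have hg0 : g ≠ 0 := fun h => hI0 (eq_bot_iff.2 fun z hz => by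
    have := Ideal.mem_map_of_mem (algebraMap A S) hz
    change algebraMap A S z ∈ J at this
    rw [hJg, h, map_zero, Ideal.span_singleton_zero, Ideal.mem_bot] at this
    exact (Submodule.mem_bot A).2 (hinj (this.trans (map_zero _).symm)))
  obtain ⟨v, s, t, hs, ht, hst⟩ := hC g hg0
  have hv : v ≠ 0 := fun h => by
    rw [h, map_zero, zero_mul, mul_eq_zero] at hst
    exact hst.elim (fun h => hs (h ▸ Ideal.zero_mem _)) hg0
  obtain ⟨t', rfl⟩ := div s hs v hv t ⟨g, hst.symm⟩
  have hs0 : s ≠ 0 := fun h => hs (h ▸ Ideal.zero_mem _)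
  have hg' : g = algebraMap V A v * t' := mul_left_cancel₀ hs0 (by linear_combination hst)
  have ht' : t' ∉ pA := fun h => ht (Ideal.mul_mem_left _ _ h)
  refine ⟨t', le_antisymm (fun z hz => ?_)
    ((Ideal.span_singleton_le_iff_mem _).2 (hI v hv t' (hg' ▸ hgI)))⟩
  have hzJ : algebraMap A S z ∈ J := Ideal.mem_map_of_mem _ hz
  rw [hJg, Ideal.mem_span_singleton'] at hzJ
  obtain ⟨l, hl⟩ := hzJ
  obtain ⟨⟨c, ⟨_, w', hw', rfl⟩⟩, hcw⟩ := IsLocalization.surj (Algebra.algebraMapSubmonoid A (nonZeroDivisors V)) l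
  rw [Ideal.mem_span_singleton]
  refine div t' ht' w' (nonZeroDivisors.ne_zero hw') z ⟨c * algebraMap V A v, hinj ?_⟩
  rw [map_mul, ← hl, hg']
  simp only [map_mul] at hcw ⊢
  linear_combination (algebraMap A S (algebraMap V A v) * algebraMap A S t') * hcw

theorem isPrincipalAt_of_forall {A : Type u} [CommRing A] (I : Ideal A) (hI : I.FG) (P : Ideal A) [hP : P.IsPrime]
    (b : A) (hb : b ∈ I) (hb0 : ∀ t ∉ P, t * b ≠ 0) (h : ∀ z ∈ I, ∃ s ∉ P, b ∣ s * z) :
    IsPrincipalAt I P := by
  classical
  obtain ⟨G, hG⟩ := hI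
  have hGI : ∀ z ∈ G, z ∈ I := fun z hz => hG ▸ Submodule.subset_span hz
  choose! t ht hdvd using h
  refine ⟨b, hb, hb0, ∏ z ∈ G, t z, fun h => ?_, fun z hz => ?_⟩
  · obtain ⟨z, hzG, hzq⟩ := Ideal.IsPrime.prod_mem_iff.mp h
    exact ht z (hGI z hzG) hzq
  · have : I ≤ Submodule.comap (LinearMap.mulLeft A (∏ z ∈ G, t z)) (Ideal.span {b}) := by
      rw [← hG, Submodule.span_le]
      intro z' hz'
      rw [SetLike.mem_coe, Submodule.mem_comap, LinearMap.mulLeft_apply, Ideal.mem_span_singleton,
        ← Finset.prod_erase_mul _ _ hz', mul_assoc]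
      exact dvd_mul_of_dvd_right (hdvd z' (hGI z' hz')) _
    exact Ideal.mem_span_singleton.mp (this hz)

theorem IsPrincipalAt.mono {A : Type u} [CommRing A] {I : Ideal A} {P : Ideal A} {B : Type u} [CommRing B]
    [Algebra A B] (M : Submonoid A) [IsLocalization M B] (P' : Ideal B) [hP' : P'.IsPrime]
    (hPP : P'.comap (algebraMap A B) = P) (h : IsPrincipalAt I P) :
    IsPrincipalAt (I.map (algebraMap A B)) P' := by
  obtain ⟨b, hb, hb0, s, hs, hz⟩ := h
  have hM : ∀ m : M, (m : A) ∉ P := fun m hm => by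
    rw [← hPP] at hm
    exact hP'.ne_top (Ideal.eq_top_of_isUnit_mem _ hm (IsLocalization.map_units B m))
  have hPp : P.IsPrime := hPP ▸ Ideal.comap_isPrime _ P'
  refine ⟨algebraMap A B b, Ideal.mem_map_of_mem _ hb, fun t ht hzero => ?_, algebraMap A B s,
    fun h => hs (by rw [← hPP]; exact h), fun z hzI => ?_⟩
  · obtain ⟨⟨a, m⟩, hm⟩ := IsLocalization.surj M t
    have h1 : algebraMap A B (a * b) = 0 := by
      rw [map_mul, ← hm, mul_right_comm, hzero, zero_mul]
    obtain ⟨m', hm'⟩ := (IsLocalization.map_eq_zero_iff M B _).1 h1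
    refine hb0 ((m' : A) * a) (fun h => ?_) (by rw [mul_assoc]; exact hm')
    refine (hPp.mem_or_mem h).elim (hM m') fun ha => ht ?_
    rw [← hPP, Ideal.mem_comap, ← hm] at ha
    exact (hP'.mem_or_mem ha).resolve_right fun h => hM m (by rw [← hPP]; exact h)
  · obtain ⟨⟨⟨i, hi⟩, m⟩, hm⟩ := (IsLocalization.mem_map_algebraMap_iff M B).1 hzI
    obtain ⟨c, hc⟩ := hz i hi
    have hu := IsLocalization.map_units B m
    rw [← hu.dvd_mul_right, mul_assoc, hm, ← map_mul, hc, map_mul]
    exact dvd_mul_right _ _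

theorem IsPrincipalAt.descend {A : Type u} [CommRing A] {I : Ideal A} (hI : I.FG) {B : Type u} [CommRing B]
    [Algebra A B] (M : Submonoid A) [IsLocalization M B] (P' : Ideal B) [hP' : P'.IsPrime]
    (h : IsPrincipalAt (I.map (algebraMap A B)) P') : IsPrincipalAt I (P'.comap (algebraMap A B)) := by
  obtain ⟨b', hb', hb0, s', hs', hz⟩ := h
  obtain ⟨⟨⟨b, hb⟩, m⟩, hm⟩ := (IsLocalization.mem_map_algebraMap_iff M B).1 hb'
  dsimp only at hm
  have hu : ∀ m : M, algebraMap A B m ∉ P' := fun m h =>
    hP'.ne_top (Ideal.eq_top_of_isUnit_mem _ h (IsLocalization.map_units B m))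
  refine isPrincipalAt_of_forall I hI _ b hb (fun t ht hzero => ?_) fun z hzI => ?_
  · refine hb0 (algebraMap A B t * algebraMap A B m) (fun h => (hP'.mem_or_mem h).elim ht (hu m)) ?_
    rw [mul_assoc, mul_comm (algebraMap A B m), hm, ← map_mul, hzero, map_zero]
  · obtain ⟨l, hl⟩ := hz _ (Ideal.mem_map_of_mem (algebraMap A B) hzI)
    obtain ⟨⟨s, n⟩, hn⟩ := IsLocalization.surj M s'
    obtain ⟨⟨c, k⟩, hk⟩ := IsLocalization.surj M l
    dsimp only at hn hk
    have heq : algebraMap A B (s * z * ↑(m * k)) = algebraMap A B (b * c * n) := by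
      simp only [map_mul, Submonoid.coe_mul]
      rw [← hn, ← hk, ← hm]
      linear_combination (algebraMap A B n * algebraMap A B m * algebraMap A B k) * hl
    obtain ⟨e, he⟩ := (IsLocalization.eq_iff_exists M B).1 heq
    refine ⟨s * ↑(e * (m * k)), fun h => ?_, ⟨c * n * e, ?_⟩⟩
    · have h' : algebraMap A B s * algebraMap A B ↑(e * (m * k)) ∈ P' := by rw [← map_mul]; exact h
      refine (hP'.mem_or_mem h').elim (fun h1 => ?_) (hu _)
      rw [← hn] at h1
      exact (hP'.mem_or_mem h1).elim hs' (hu n)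
    · simp only [Submonoid.coe_mul] at he ⊢
      linear_combination he

theorem IsSat.map {A : Type u} [CommRing A] [Algebra V A] {I : Ideal A} (hI : IsSat V I) {B : Type u} [CommRing B]
    [Algebra A B] [Algebra V B] [IsScalarTower V A B] (M : Submonoid A) [IsLocalization M B] :
    IsSat V (I.map (algebraMap A B)) := by
  intro v hv z hz
  obtain ⟨⟨z₀, m⟩, hm⟩ := IsLocalization.surj M z
  dsimp only at hm
  have h1 : algebraMap A B (algebraMap V A v * z₀) ∈ I.map (algebraMap A B) := by
    rw [map_mul, ← IsScalarTower.algebraMap_apply, ← hm, ← mul_assoc]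
    exact Ideal.mul_mem_right _ _ hz
  obtain ⟨m', hm', hmI⟩ := (IsLocalization.algebraMap_mem_map_algebraMap_iff M B _ _).1 h1
  have h2 : (m' : A) * z₀ ∈ I := hI v hv _ (by rw [mul_left_comm]; exact hmI)
  refine (Ideal.unit_mul_mem_iff_mem _ ((IsLocalization.map_units B (⟨m', hm'⟩ : M)).mul
    (IsLocalization.map_units B m))).1 ?_
  rw [mul_assoc, mul_comm _ z, hm, ← map_mul]
  exact Ideal.mem_map_of_mem _ h2

/-- Smooth domains: principal at primes over the closed point. -/
theorem isPrincipalAt_of_smooth_domain {B : Type u} [CommRing B] [IsDomain B] [Algebra V B] [Algebra.Smooth V B]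
    (q : Ideal B) [q.IsPrime] (hq : q.comap (algebraMap V B) = maximalIdeal V) (I : Ideal B) (hI : IsSat V I)
    (hP : ∀ P : Ideal B, P.IsPrime → P.comap (algebraMap V B) = ⊥ → IsPrincipalAt I P) :
    IsPrincipalAt I q := by
  classical
  let A := Localization.AtPrime q
  haveI : IsLocalHom (algebraMap V A) := ⟨fun v hv => by
    by_contra h
    have h1 : algebraMap V B v ∈ q := by
      rw [← Ideal.mem_comap, hq]; exact (mem_maximalIdeal v).2 h
    rw [IsScalarTower.algebraMap_apply V B A, IsLocalization.AtPrime.isUnit_to_map_iff A q] at hv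
    exact hv h1⟩
  haveI : Module.Flat V A := Module.Flat.trans V B A
  haveI : IsDomain A := IsLocalization.isDomain_localization q.primeCompl_le_nonZeroDivisors
  have hinjBA : Function.Injective (algebraMap B A) := IsLocalization.injective A q.primeCompl_le_nonZeroDivisors
  let mA := (maximalIdeal V).map (algebraMap V A)
  have hreg : IsRegularLocalRing (A ⧸ mA) := by
    have h := EGA4Lib.isRegularLocalRing_fibLocRing V (B := B)
      (fun p _ => Omega.GeomRegular.isGeometricallyRegular_of_formallySmooth p.ResidueField) q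
    exact IsRegularLocalRing.of_ringEquiv (R := EGA4.FibLocRing V B q)
      (Ideal.quotEquivOfEq (show (q.comap (algebraMap V B)).map (algebraMap V A) = mA by rw [hq]))
  haveI := hreg
  haveI : IsDomain (A ⧸ mA) := RegLoc.isDomain _
  haveI hmA : mA.IsPrime := (Ideal.Quotient.isDomain_iff_prime _).mp ‹_›
  let η := mA.comap (algebraMap B A)
  haveI : η.IsPrime := Ideal.comap_isPrime _ _
  have hmB : (maximalIdeal V).map (algebraMap V B) ≤ η := by
    rw [Ideal.map_le_iff_le_comap]
    intro v hv
    show algebraMap B A (algebraMap V B v) ∈ mA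
    rw [← IsScalarTower.algebraMap_apply]
    exact Ideal.mem_map_of_mem _ hv
  have hmap : ((maximalIdeal V).map (algebraMap V B)).map (algebraMap B A) = mA := by
    rw [Ideal.map_map, ← IsScalarTower.algebraMap_eq]
  have hmin : η ∈ ((maximalIdeal V).map (algebraMap V B)).minimalPrimes := by
    refine ⟨⟨inferInstance, hmB⟩, fun η' hη' hle x hx => ?_⟩
    have hx' : algebraMap B A x ∈ ((maximalIdeal V).map (algebraMap V B)).map (algebraMap B A) :=
      hmap.symm ▸ hx
    obtain ⟨s, hs, hsx⟩ := (IsLocalization.algebraMap_mem_map_algebraMap_iff q.primeCompl A _ _).1 hx'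
    refine (hη'.1.mem_or_mem (hη'.2 hsx)).resolve_left fun h => ?_
    have h1 : algebraMap B A s ∈ mA := hle h
    exact hmA.ne_top (Ideal.eq_top_of_isUnit_mem _ h1 (IsLocalization.map_units A (⟨s, hs⟩ : q.primeCompl)))
  have hC : ∀ a : A, a ≠ 0 → ∃ (v : V) (s t : A), s ∉ mA ∧ t ∉ mA ∧ s * a = algebraMap V A v * t := by
    intro a ha
    obtain ⟨⟨a₀, s₀⟩, h₀⟩ := IsLocalization.surj q.primeCompl a
    dsimp only at h₀
    have ha₀ : a₀ ≠ 0 := fun h => by
      rw [h, map_zero, mul_eq_zero] at h₀
      exact h₀.elim ha (IsLocalization.map_units A s₀).ne_zero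
    obtain ⟨-, -, -, hv⟩ := Groth.Agent.S14726.result V B η hmin
    obtain ⟨v, w, hw⟩ := hv (algebraMap B _ a₀) ((map_ne_zero_iff _
      (IsLocalization.injective _ η.primeCompl_le_nonZeroDivisors)).2 ha₀)
    obtain ⟨⟨t, s⟩, hts⟩ := IsLocalization.surj η.primeCompl (w : Localization.AtPrime η)
    dsimp only at hts
    have ht : t ∉ η := fun h => by
      have hu : IsUnit (algebraMap B (Localization.AtPrime η) t) := by
        rw [← hts]; exact w.isUnit.mul (IsLocalization.map_units _ s)
      exact ((IsLocalization.AtPrime.isUnit_to_map_iff _ η t).1 hu) h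
    have heq : (s : B) * a₀ = algebraMap V B v * t := by
      apply IsLocalization.injective (Localization.AtPrime η) η.primeCompl_le_nonZeroDivisors
      rw [map_mul, map_mul, hw, ← hts, ← IsScalarTower.algebraMap_apply]
      ring
    refine ⟨v, algebraMap B A s * algebraMap B A s₀, algebraMap B A t, fun h => ?_, ht, ?_⟩
    · refine (hmA.mem_or_mem h).elim s.2 fun h1 => hmA.ne_top
        (Ideal.eq_top_of_isUnit_mem _ h1 (IsLocalization.map_units A s₀))
    · rw [mul_assoc, mul_comm _ a, h₀, ← map_mul, heq, map_mul, ← IsScalarTower.algebraMap_apply]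
  have hVB : Function.Injective (algebraMap V B) := by
    rw [injective_iff_map_eq_zero]
    intro v hv
    by_contra hv0
    exact one_ne_zero ((Module.Flat.isSMulRegular_of_nonZeroDivisors (M := B)
      (mem_nonZeroDivisors_of_ne_zero hv0)).right_eq_zero_of_smul (x := (1 : B))
      (by rw [Algebra.smul_def, hv, zero_mul]))
  have hVA : Function.Injective (algebraMap V A) := by
    rw [IsScalarTower.algebraMap_eq V B A]; exact hinjBA.comp hVB
  let IA := I.map (algebraMap B A)
  have hsat : IsSat V IA := hI.map q.primeCompl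
  obtain ⟨b, hb, hb0, -⟩ := hP ⊥ Ideal.isPrime_bot (Ideal.comap_bot_of_injective _ hVB)
  have hb1 : b ≠ 0 := fun h => hb0 1 (fun h1 => one_ne_zero ((Submodule.mem_bot B).1 h1)) (by rw [h, mul_zero])
  have hIA0 : IA ≠ ⊥ := fun h => hb1 (hinjBA (by
    rw [map_zero, ← Ideal.mem_bot, ← h]; exact Ideal.mem_map_of_mem _ hb))
  let M := Algebra.algebraMapSubmonoid A (nonZeroDivisors V)
  have hM : M ≤ nonZeroDivisors A := by
    rintro _ ⟨v, hv, rfl⟩
    exact mem_nonZeroDivisors_of_ne_zero ((map_ne_zero_iff _ hVA).2 (nonZeroDivisors.ne_zero hv))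
  let S := Localization M
  haveI : IsDomain S := IsLocalization.isDomain_of_le_nonZeroDivisors S hM
  have hinjAS : Function.Injective (algebraMap A S) := IsLocalization.injective S hM
  have hinjBS : Function.Injective (algebraMap B S) := by
    rw [IsScalarTower.algebraMap_eq B A S]; exact hinjAS.comp hinjBA
  have hJ : IA.map (algebraMap A S) = I.map (algebraMap B S) := by
    rw [Ideal.map_map, ← IsScalarTower.algebraMap_eq]
  have hproj : Module.Projective S (IA.map (algebraMap A S)) := by
    refine RegLoc.UFD.projective_of_locallyPrincipal _ ?_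
    by_contra hne
    obtain ⟨Q, hQ, hTQ⟩ := Ideal.exists_le_maximal _ hne
    let P := Q.comap (algebraMap B S)
    have hP0 : P.comap (algebraMap V B) = ⊥ := by
      rw [eq_bot_iff]
      intro v hv
      by_contra hv0
      refine hQ.ne_top (Ideal.eq_top_of_isUnit_mem _ hv ?_)
      rw [← IsScalarTower.algebraMap_apply, IsScalarTower.algebraMap_apply V A S]
      exact IsLocalization.map_units S (⟨algebraMap V A v, v, mem_nonZeroDivisors_of_ne_zero hv0, rfl⟩ : M)
    obtain ⟨b, hb, hb0, s, hs, hz⟩ := hP P (Ideal.comap_isPrime _ _) hP0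
    have hb1 : b ≠ 0 := fun h => hb0 s hs (by rw [h, mul_zero])
    refine hs (hTQ (Ideal.subset_span ⟨algebraMap B S b, ?_, (map_ne_zero_iff _ hinjBS).2 hb1, ?_⟩))
    · rw [hJ]; exact Ideal.mem_map_of_mem _ hb
    · rw [hJ]
      intro z hzJ
      have hle : I.map (algebraMap B S) ≤
          Submodule.comap (LinearMap.mulLeft S (algebraMap B S s)) (Ideal.span {algebraMap B S b}) := by
        rw [Ideal.map, Ideal.span, Submodule.span_le]
        rintro _ ⟨z₀, hz₀, rfl⟩
        rw [SetLike.mem_coe, Submodule.mem_comap, LinearMap.mulLeft_apply, Ideal.mem_span_singleton, ← map_mul]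
        exact map_dvd _ (hz z₀ hz₀)
      exact Ideal.mem_span_singleton.1 (hle hzJ)
  obtain ⟨g, hg⟩ := core hreg hC IA hsat hIA0 S hproj
  have hprin : IsPrincipalAt IA (maximalIdeal A) := by
    refine ⟨g, hg ▸ Ideal.mem_span_singleton_self g, fun t ht h => ?_, 1,
      fun h => (maximalIdeal.isMaximal A).ne_top ((Ideal.eq_top_iff_one _).2 h), fun z hz => ?_⟩
    · rcases mul_eq_zero.1 h with h | h
      · exact ht (h ▸ Ideal.zero_mem _)
      · exact hIA0 (by rw [hg, h, Ideal.span_singleton_eq_bot])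
    · rw [one_mul, ← Ideal.mem_span_singleton, ← hg]; exact hz
  have := hprin.descend (fg_of_isSat hI) q.primeCompl (maximalIdeal A)
  rwa [show (maximalIdeal A).comap (algebraMap B A) = q from IsLocalization.AtPrime.under_maximalIdeal A q] at this

/-- Smooth domains: principal at all primes. -/
theorem isPrincipalAt_of_domain {B : Type u} [CommRing B] [IsDomain B] [Algebra V B] [Algebra.Smooth V B]
    (q : Ideal B) [hq : q.IsPrime] (I : Ideal B) (hI : IsSat V I)
    (hP : ∀ P : Ideal B, P.IsPrime → P.comap (algebraMap V B) = ⊥ → IsPrincipalAt I P) :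
    IsPrincipalAt I q := by
  let p := q.comap (algebraMap V B)
  let Vp := Localization.AtPrime p
  letI : Algebra B (Vp ⊗[V] B) := Algebra.TensorProduct.rightAlgebra
  let M := Algebra.algebraMapSubmonoid B p.primeCompl
  haveI : IsLocalization M (Vp ⊗[V] B) := IsLocalization.tensorRight _ _
  haveI : ValuationRing Vp := by
    refine ValuationRing.iff_dvd_total.mpr ⟨fun a b => ?_⟩
    obtain ⟨⟨a₀, s⟩, ha⟩ := IsLocalization.surj p.primeCompl a
    obtain ⟨⟨b₀, t⟩, hb⟩ := IsLocalization.surj p.primeCompl b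
    rw [← (IsLocalization.map_units Vp s).mul_right_dvd, ← (IsLocalization.map_units Vp t).dvd_mul_right, ha, hb,
      ← (IsLocalization.map_units Vp t).mul_right_dvd (b := a), ← (IsLocalization.map_units Vp s).dvd_mul_right (a := b * _),
      ha, hb]
    rcases ValuationRing.dvd_total a₀ b₀ with h | h
    · exact Or.inl (map_dvd _ h)
    · exact Or.inr (map_dvd _ h)
  have hMq : Disjoint (M : Set B) (q : Set B) := by
    refine Set.disjoint_left.2 ?_
    rintro _ ⟨v, hv, rfl⟩ h
    exact hv h
  have hM : M ≤ nonZeroDivisors B := fun x hx =>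
    mem_nonZeroDivisors_of_ne_zero fun h => Set.disjoint_left.1 hMq hx (h ▸ q.zero_mem)
  haveI : IsDomain (Vp ⊗[V] B) := IsLocalization.isDomain_of_le_nonZeroDivisors _ hM
  haveI : IsScalarTower V B (Vp ⊗[V] B) := inferInstance
  let q' := q.map (algebraMap B (Vp ⊗[V] B))
  haveI hq' : q'.IsPrime := IsLocalization.isPrime_of_isPrime_disjoint M _ _ hq hMq
  have hqc : q'.comap (algebraMap B (Vp ⊗[V] B)) = q :=
    IsLocalization.under_map_of_isPrime_disjoint M _ hq hMq
  have hsq : ∀ v : V, algebraMap Vp (Vp ⊗[V] B) (algebraMap V Vp v) = algebraMap B (Vp ⊗[V] B) (algebraMap V B v) :=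
    fun v => by rw [← IsScalarTower.algebraMap_apply, ← IsScalarTower.algebraMap_apply]
  have hq'p : q'.comap (algebraMap Vp (Vp ⊗[V] B)) = maximalIdeal Vp := by
    refine le_antisymm (le_maximalIdeal (Ideal.comap_ne_top _ hq'.ne_top)) ?_
    rw [← Localization.AtPrime.map_eq_maximalIdeal, Ideal.map_le_iff_le_comap]
    intro v hv
    show algebraMap Vp (Vp ⊗[V] B) (algebraMap V Vp v) ∈ q'
    rw [hsq]
    exact Ideal.mem_map_of_mem _ hv
  have hsat : IsSat Vp (I.map (algebraMap B (Vp ⊗[V] B))) := by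
    intro v hv z hz
    obtain ⟨⟨v₀, s⟩, h⟩ := IsLocalization.surj p.primeCompl v
    dsimp only at h
    refine hI.map M v₀ (fun h0 => ?_) z ?_
    · rw [h0, map_zero, mul_eq_zero] at h
      exact h.elim hv (IsLocalization.map_units Vp s).ne_zero
    · rw [IsScalarTower.algebraMap_apply V Vp (Vp ⊗[V] B), ← h, map_mul, mul_right_comm]
      exact Ideal.mul_mem_right _ _ hz
  have := isPrincipalAt_of_smooth_domain q' hq'p _ hsat fun P hPp hP0 => by
    refine IsPrincipalAt.mono M P rfl (hP _ (Ideal.comap_isPrime _ _) ?_)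
    rw [eq_bot_iff]
    intro v hv
    have h1 : algebraMap V Vp v ∈ P.comap (algebraMap Vp (Vp ⊗[V] B)) := by
      rw [Ideal.mem_comap, hsq]; exact hv
    rw [hP0, Ideal.mem_bot] at h1
    exact (Submodule.mem_bot V).2
      ((map_eq_zero_iff _ (IsLocalization.injective Vp p.primeCompl_le_nonZeroDivisors)).1 h1)
  rw [← hqc]
  exact this.descend (fg_of_isSat hI) M q'

theorem isPrincipalAt {B : Type u} [CommRing B] [Algebra V B] [Algebra.Smooth V B]
    (q : Ideal B) [hq : q.IsPrime] (I : Ideal B) (hI : IsSat V I)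
    (hP : ∀ P : Ideal B, P.IsPrime → P.comap (algebraMap V B) = ⊥ → IsPrincipalAt I P) :
    IsPrincipalAt I q := by
  let A := Localization.AtPrime q
  have hVn : EGA4.IsNormalRing V := fun p _ =>
    ⟨IsLocalization.isDomain_localization p.primeCompl_le_nonZeroDivisors,
      isIntegrallyClosed_of_isLocalization _ p.primeCompl p.primeCompl_le_nonZeroDivisors⟩
  haveI : IsDomain A := (((Groth.Agent.S1182.result V B).1 hVn) q).1
  let 𝔓 : Ideal B := RingHom.ker (algebraMap B A)
  have hsat : IsSat V 𝔓 := by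
    intro v hv z hz
    have h := RingHom.mem_ker.1 hz
    rw [map_mul, mul_eq_zero, ← IsScalarTower.algebraMap_apply] at h
    refine RingHom.mem_ker.2 (h.resolve_left fun h0 => ?_)
    haveI : Module.Flat V A := Module.Flat.trans V B A
    exact one_ne_zero ((Module.Flat.isSMulRegular_of_nonZeroDivisors (M := A)
      (mem_nonZeroDivisors_of_ne_zero hv)).right_eq_zero_of_smul (x := (1 : A))
      (by rw [Algebra.smul_def, h0, zero_mul]))
  obtain ⟨G, hG⟩ := fg_of_isSat hsat
  have hker : ∀ z : B, z ∈ 𝔓 → ∃ t ∉ q, t * z = 0 := fun z hz => by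
    obtain ⟨t, ht⟩ := (IsLocalization.map_eq_zero_iff q.primeCompl A z).1 (RingHom.mem_ker.1 hz)
    exact ⟨t, t.2, ht⟩
  choose! t ht ht0 using hker
  classical
  let f := ∏ z ∈ G, t z
  have hGP : ∀ z ∈ G, z ∈ 𝔓 := fun z hz => hG ▸ Submodule.subset_span hz
  have hf : f ∉ q := fun h => by
    obtain ⟨z, hzG, hzq⟩ := Ideal.IsPrime.prod_mem_iff.mp h
    exact ht z (hGP z hzG) hzq
  have hf0 : 𝔓 ≤ LinearMap.ker (LinearMap.mulLeft B f) := by
    rw [← hG, Submodule.span_le]
    intro z hz
    rw [SetLike.mem_coe, LinearMap.mem_ker, LinearMap.mulLeft_apply, show f = ∏ z ∈ G, t z from rfl,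
      ← Finset.prod_erase_mul _ _ hz, mul_assoc, ht0 z (hGP z hz), mul_zero]
  let Bf := Localization.Away f
  have hdis : Disjoint (Submonoid.powers f : Set B) (q : Set B) :=
    (Ideal.disjoint_powers_iff_notMem_of_isPrime _).mpr hf
  let φ : Bf →+* A := IsLocalization.Away.lift f (g := algebraMap B A)
    (IsLocalization.map_units A (⟨f, hf⟩ : q.primeCompl))
  have hφ : Function.Injective φ := by
    rw [injective_iff_map_eq_zero]
    intro x hx
    obtain ⟨⟨a, m⟩, rfl⟩ := IsLocalization.mk'_surjective (Submonoid.powers f) x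
    have ha : algebraMap B A a = 0 := by
      have h1 := congrArg φ (IsLocalization.mk'_spec Bf a m)
      rw [map_mul, hx, zero_mul, IsLocalization.Away.lift_eq] at h1
      exact h1.symm
    rw [IsLocalization.mk'_eq_zero_iff]
    exact ⟨⟨f, Submonoid.mem_powers f⟩, hf0 (RingHom.mem_ker.2 ha)⟩
  haveI : IsDomain Bf := hφ.isDomain φ
  haveI : Algebra.Smooth B Bf := Algebra.Smooth.of_isLocalization_Away f
  haveI : Algebra.Smooth V Bf := Algebra.Smooth.comp V B Bf
  let q' := q.map (algebraMap B Bf)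
  haveI hq' : q'.IsPrime := IsLocalization.isPrime_of_isPrime_disjoint (Submonoid.powers f) _ _ hq hdis
  have hqc : q'.comap (algebraMap B Bf) = q :=
    IsLocalization.under_map_of_isPrime_disjoint (Submonoid.powers f) _ hq hdis
  have := isPrincipalAt_of_domain q' (I.map (algebraMap B Bf)) (hI.map (Submonoid.powers f)) fun P hPp hP0 =>
    IsPrincipalAt.mono (Submonoid.powers f) P rfl (hP _ (Ideal.comap_isPrime _ _) (by
      rw [Ideal.comap_comap, ← IsScalarTower.algebraMap_eq]; exact hP0))
  rw [← hqc]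
  exact this.descend (fg_of_isSat hI) (Submonoid.powers f) q'

/-- A principal equation which is a nonzerodivisor near the prime. -/
theorem exists_equation {B : Type u} [CommRing B] [Algebra V B] [Algebra.Smooth V B]
    (q : Ideal B) [hq : q.IsPrime] (I : Ideal B) (hI : IsSat V I)
    (hP : ∀ P : Ideal B, P.IsPrime → P.comap (algebraMap V B) = ⊥ → IsPrincipalAt I P) :
    ∃ f ∉ q, ∃ b ∈ I, (∀ z, z * b = 0 → f * z = 0) ∧ ∀ z ∈ I, b ∣ f * z := by
  classical
  obtain ⟨b, hb, hb0, s, hs, hz⟩ := isPrincipalAt q I hI hP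
  let A := Localization.AtPrime q
  have hVn : EGA4.IsNormalRing V := fun p _ =>
    ⟨IsLocalization.isDomain_localization p.primeCompl_le_nonZeroDivisors,
      isIntegrallyClosed_of_isLocalization _ p.primeCompl p.primeCompl_le_nonZeroDivisors⟩
  haveI : IsDomain A := (((Groth.Agent.S1182.result V B).1 hVn) q).1
  let 𝔞 : Ideal B := LinearMap.ker (LinearMap.mulRight B b)
  have hsat : IsSat V 𝔞 := by
    intro v hv z hz
    rw [LinearMap.mem_ker, LinearMap.mulRight_apply] at hz ⊢
    exact (Module.Flat.isSMulRegular_of_nonZeroDivisors (M := B)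
      (mem_nonZeroDivisors_of_ne_zero hv)).right_eq_zero_of_smul (x := z * b)
      (by rw [Algebra.smul_def, ← mul_assoc]; exact hz)
  obtain ⟨G, hG⟩ := fg_of_isSat hsat
  have hker : ∀ z ∈ 𝔞, ∃ t ∉ q, t * z = 0 := fun z hz => by
    rw [LinearMap.mem_ker, LinearMap.mulRight_apply] at hz
    have h0 : algebraMap B A z * algebraMap B A b = 0 := by rw [← map_mul, hz, map_zero]
    rcases mul_eq_zero.1 h0 with h | h <;>
      obtain ⟨t, ht⟩ := (IsLocalization.map_eq_zero_iff q.primeCompl A _).1 h
    · exact ⟨t, t.2, ht⟩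
    · exact absurd ht (hb0 t t.2)
  choose! t ht ht0 using hker
  have hGP : ∀ z ∈ G, z ∈ 𝔞 := fun z hz => hG ▸ Submodule.subset_span hz
  refine ⟨s * ∏ z ∈ G, t z, fun h => ?_, b, hb, fun z hzb => ?_, fun z hzI => ?_⟩
  · refine (hq.mem_or_mem h).elim hs fun h => ?_
    obtain ⟨z, hzG, hzq⟩ := Ideal.IsPrime.prod_mem_iff.mp h
    exact ht z (hGP z hzG) hzq
  · have hle : 𝔞 ≤ LinearMap.ker (LinearMap.mulLeft B (s * ∏ z ∈ G, t z)) := by
      rw [← hG, Submodule.span_le]
      intro z hz
      rw [SetLike.mem_coe, LinearMap.mem_ker, LinearMap.mulLeft_apply, mul_assoc, ← Finset.prod_erase_mul _ _ hz,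
        mul_assoc, ht0 z (hGP z hz), mul_zero, mul_zero]
    exact hle (LinearMap.mem_ker.2 hzb)
  · rw [mul_right_comm]
    exact dvd_mul_of_dvd_left (hz z hzI) _

end

end Groth.Agent.AlgSpReg.CartierExt
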