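import Groth.Agent.AlgSpReg.CartierExtAlg
import Groth.Agent.AlgSp.KerFlat
import Groth.Agent.AlgSp.CartierDesc
import Mathlib.AlgebraicGeometry.Morphisms.Smooth
import Mathlib.AlgebraicGeometry.Morphisms.Preimmersion

/-!
# Closures of effective Cartier divisors of the generic fibre of a smooth scheme over a valuation ring
-/

set_option autoImplicit false
set_option linter.style.haveILetI false
set_option backward.isDefEq.respectTransparency false
set_option backward.isDefEq.respectTransparency.types false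

universe u

open CategoryTheory CategoryTheory.Limits AlgebraicGeometry

namespace Groth.Agent.AlgSpReg.CartierExt

open Groth.Agent.IdealSh Groth.Agent.IdealSh.Comap

variable {R K : Type u} [CommRing R] [Field K] [Algebra R K] [IsFractionRing R K]
  {U UK : Scheme.{u}} {q : U ⟶ Spec (CommRingCat.of R)} {gU : UK ⟶ U} {qK : UK ⟶ Spec (CommRingCat.of K)}

include K in
theorem isAffineHom_of_sq
    (sq : IsPullback gU qK q (Spec.map (CommRingCat.ofHom (algebraMap R K)))) : IsAffineHom gU :=
  MorphismProperty.of_isPullback (P := @IsAffineHom) sq.flip inferInstance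

theorem flat_of_sq
    (sq : IsPullback gU qK q (Spec.map (CommRingCat.ofHom (algebraMap R K)))) : Flat gU :=
  haveI : Module.Flat R K := IsLocalization.flat K (nonZeroDivisors R)
  MorphismProperty.of_isPullback (P := @Flat) sq.flip
    ((HasRingHomProperty.Spec_iff (P := @Flat)).2 (RingHom.flat_algebraMap_iff.2 inferInstance))

theorem mono_of_sq
    (sq : IsPullback gU qK q (Spec.map (CommRingCat.ofHom (algebraMap R K)))) : Mono gU :=
  haveI : IsPreimmersion (Spec.map (CommRingCat.ofHom (algebraMap R K))) :=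
    IsPreimmersion.of_isLocalization (nonZeroDivisors R)
  MorphismProperty.of_isPullback (P := MorphismProperty.monomorphisms Scheme.{u}) sq.flip
    (MorphismProperty.monomorphisms.infer_property _)

/-- The closure of a closed subscheme of the generic fibre restricts to it. -/
theorem comap_ker
    (sq : IsPullback gU qK q (Spec.map (CommRingCat.ofHom (algebraMap R K)))) (IK : UK.IdealSheafData) :
    (IK.subschemeι ≫ gU).ker.comap gU = IK := by
  have := isAffineHom_of_sq sq
  have := flat_of_sq sq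
  have := mono_of_sq sq
  have h1 : IsPullback (𝟙 IK.subscheme) IK.subschemeι IK.subschemeι (𝟙 UK) :=
    IsPullback.of_horiz_isIso ⟨by simp⟩
  have h2 : IsPullback (𝟙 UK) (𝟙 UK) gU gU := IsKernelPair.id_of_mono gU
  have h3 := h1.paste_vert h2
  rw [Category.comp_id] at h3
  rw [← Groth.Agent.AlgSp.KerFlat.ker_of_isPullback h3, Scheme.IdealSheafData.ker_subschemeι]

/-- The closure of an effective Cartier divisor of the generic fibre is effective Cartier. -/
theorem isEffCartierIdeal_ker [IsDomain R] [ValuationRing R] [Smooth q]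
    (sq : IsPullback gU qK q (Spec.map (CommRingCat.ofHom (algebraMap R K)))) {IK : UK.IdealSheafData}
    (hIK : BlowUp.IsEffCartierIdeal IK) : BlowUp.IsEffCartierIdeal (IK.subschemeι ≫ gU).ker := by
  have := isAffineHom_of_sq sq
  have := flat_of_sq sq
  set I := (IK.subschemeι ≫ gU).ker with hIdef
  intro x
  obtain ⟨U₀, hx, -⟩ := exists_affine_le x ⊤ trivial
  let B := Γ(U, U₀.1)
  let φ : CommRingCat.of R ⟶ B := Spec.preimage (U₀.2.fromSpec ≫ q)
  have hφ : Spec.map φ = U₀.2.fromSpec ≫ q := Spec.map_preimage _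
  have hφs : φ.hom.Smooth := by
    refine (HasRingHomProperty.Spec_iff (P := @Smooth)).1 ?_
    rw [hφ]
    infer_instance
  letI : Algebra R B := φ.hom.toAlgebra
  haveI : Algebra.Smooth R B := hφs
  have hgen : ∀ (y : UK) (hy : gU y ∈ U₀.1),
      (U₀.2.primeIdealOf ⟨gU y, hy⟩).asIdeal.comap (algebraMap R B) = ⊥ := by
    intro y hy
    have h1 : Spec.map φ (U₀.2.primeIdealOf ⟨gU y, hy⟩) =
        Spec.map (CommRingCat.ofHom (algebraMap R K)) (qK y) := by
      rw [hφ, Scheme.Hom.comp_apply, U₀.2.fromSpec_primeIdealOf, ← Scheme.Hom.comp_apply, ← Scheme.Hom.comp_apply,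
        sq.w]
    have h2 := congrArg PrimeSpectrum.asIdeal h1
    refine Eq.trans h2 ?_
    show (qK y).asIdeal.comap (algebraMap R K) = ⊥
    rw [(Ideal.eq_bot_or_top (qK y).asIdeal).resolve_right (qK y).2.ne_top]
    exact Ideal.comap_bot_of_injective _ (IsFractionRing.injective R K)
  let J : Ideal B := I.ideal U₀
  have hJ : J = RingHom.ker ((IK.subschemeι ≫ gU).app U₀.1).hom := Scheme.Hom.ker_apply _ _
  have hsat : IsSat R J := by
    intro v hv z hz
    rw [hJ, RingHom.mem_ker, map_mul] at hz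
    have hu : IsUnit (((IK.subschemeι ≫ gU).app U₀.1).hom (algebraMap R B v)) := by
      refine RingedSpace.isUnit_of_isUnit_germ IK.subscheme.toLocallyRingedSpace.toRingedSpace _ _ fun w hw => ?_
      refine (IK.subscheme.mem_basicOpen _ w hw).1 ?_
      rw [← Scheme.preimage_basicOpen]
      show gU (IK.subschemeι w) ∈ U.basicOpen (algebraMap R B v)
      have hp := hgen (IK.subschemeι w) hw
      by_contra hmem
      have h3 : U₀.2.primeIdealOf ⟨gU (IK.subschemeι w), hw⟩ ∉ U₀.2.fromSpec ⁻¹ᵁ U.basicOpen (algebraMap R B v) := by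
        intro h
        apply hmem
        have h' : U₀.2.fromSpec (U₀.2.primeIdealOf ⟨gU (IK.subschemeι w), hw⟩) ∈
            U.basicOpen (algebraMap R B v) := h
        rwa [U₀.2.fromSpec_primeIdealOf] at h'
      rw [U₀.2.fromSpec_preimage_basicOpen] at h3
      have h4 : v ∈ (U₀.2.primeIdealOf ⟨gU (IK.subschemeι w), hw⟩).asIdeal.comap (algebraMap R B) :=
        not_not.1 h3
      rw [hp] at h4
      exact hv ((Submodule.mem_bot R).1 h4)
    rw [hJ, RingHom.mem_ker]
    exact (hu.mul_right_eq_zero).1 hz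
  have hfg : J.FG := fg_of_isSat hsat
  have hP : ∀ P : Ideal B, P.IsPrime → P.comap (algebraMap R B) = ⊥ → IsPrincipalAt J P := by
    intro P hPp hP0
    let P' : ↥(Spec B) := ⟨P, hPp⟩
    have hx0 : U₀.2.fromSpec P' ∈ U₀.1 := by
      rw [← SetLike.mem_coe, ← U₀.2.range_fromSpec]; exact Set.mem_range_self _
    let z₀ : ↥(Spec (CommRingCat.of K)) := (⊥ : PrimeSpectrum K)
    have hqx : q (U₀.2.fromSpec P') = Spec.map (CommRingCat.ofHom (algebraMap R K)) z₀ := by
      rw [← Scheme.Hom.comp_apply, ← hφ]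
      refine PrimeSpectrum.ext ?_
      show P.comap (algebraMap R B) = (⊥ : Ideal K).comap (algebraMap R K)
      rw [hP0, Ideal.comap_bot_of_injective _ (IsFractionRing.injective R K)]
    obtain ⟨w, hw, -⟩ := Scheme.Pullback.exists_preimage_pullback (U₀.2.fromSpec P') z₀ hqx
    let y := sq.isoPullback.inv w
    have hy : gU y = U₀.2.fromSpec P' := by
      rw [← Scheme.Hom.comp_apply, sq.isoPullback_inv_fst, hw]
    have hy0 : gU y ∈ U₀.1 := hy ▸ hx0
    obtain ⟨V₁, hyV, hVU, a, ha, he⟩ := EffCartier.exists_equation hIK y (gU ⁻¹ᵁ U₀.1) hy0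
    let ψ := (gU.appLE U₀.1 V₁.1 hVU).hom
    let q₁ := (V₁.2.primeIdealOf ⟨y, hyV⟩).asIdeal
    have hqP : q₁.comap ψ = P := by
      have h := congrArg PrimeSpectrum.asIdeal
        (IsAffineOpen.comap_primeIdealOf_appLE U₀.1 U₀.2 V₁.1 V₁.2 hVU hyV)
      have hPe : U₀.2.primeIdealOf ⟨gU y, hy0⟩ = P' := U₀.2.fromSpec.isOpenEmbedding.injective
        ((U₀.2.fromSpec_primeIdealOf ⟨gU y, hy0⟩).trans hy)
      exact h.trans (congrArg PrimeSpectrum.asIdeal hPe)
    have hmap : J.map ψ = Ideal.span {a} := by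
      rw [← ideal_comap I gU U₀ V₁ hVU, hIdef, comap_ker sq]
      exact he
    obtain ⟨b, hb, c, hc, hcq⟩ := Groth.Agent.AlgSp.CartierDesc.exists_candidate ψ J ha hmap q₁
    refine isPrincipalAt_of_forall J hfg P b hb (fun t ht h0 => ?_) fun z hz => ?_
    · have h1 : ψ t * c * a = 0 := by rw [mul_assoc, ← hc, ← map_mul, h0, map_zero]
      have h2 : ψ t * c = 0 := (mem_nonZeroDivisors_iff_right.mp ha) _ h1
      rcases Ideal.IsPrime.mem_or_mem inferInstance (h2 ▸ q₁.zero_mem : ψ t * c ∈ q₁) with h | h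
      · exact ht (by rw [← hqP]; exact h)
      · exact hcq h
    · obtain ⟨d, hd⟩ := Ideal.mem_span_singleton'.1 (hmap.le (Ideal.mem_map_of_mem ψ hz))
      letI : Algebra B Γ(UK, V₁.1) := ψ.toAlgebra
      haveI : Module.Flat B Γ(UK, V₁.1) := gU.flat_appLE U₀.2 V₁.2 hVU
      haveI : q₁.LiesOver P := ⟨hqP.symm⟩
      letI := Localization.AtPrime.algebraOfLiesOver P q₁
      haveI : IsLocalHom (algebraMap (Localization.AtPrime P) (Localization.AtPrime q₁)) :=
        Localization.isLocalHom_localRingHom P q₁ (algebraMap B Γ(UK, V₁.1)) hqP.symm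
      haveI : Module.Flat (Localization.AtPrime P) (Localization.AtPrime q₁) := inferInstance
      haveI := Module.FaithfullyFlat.of_flat_of_isLocalHom (A := Localization.AtPrime P) (B := Localization.AtPrime q₁)
      have hmem : algebraMap B (Localization.AtPrime P) z ∈
          Ideal.span {algebraMap B (Localization.AtPrime P) b} := by
        rw [← Ideal.comap_map_eq_self_of_faithfullyFlat (B := Localization.AtPrime q₁)
          (Ideal.span {algebraMap B (Localization.AtPrime P) b}), Ideal.mem_comap, Ideal.map_span,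
          Set.image_singleton, ← IsScalarTower.algebraMap_apply, ← IsScalarTower.algebraMap_apply,
          IsScalarTower.algebraMap_apply B Γ(UK, V₁.1) (Localization.AtPrime q₁) z,
          IsScalarTower.algebraMap_apply B Γ(UK, V₁.1) (Localization.AtPrime q₁) b,
          show algebraMap B Γ(UK, V₁.1) z = d * a from hd.symm,
          show algebraMap B Γ(UK, V₁.1) b = c * a from hc, map_mul, map_mul,
          Ideal.span_singleton_mul_left_unit (IsLocalization.map_units _ (⟨c, hcq⟩ : q₁.primeCompl))]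
        exact Ideal.mul_mem_left _ _ (Ideal.mem_span_singleton_self _)
      rw [← Set.image_singleton, ← Ideal.map_span,
        IsLocalization.algebraMap_mem_map_algebraMap_iff P.primeCompl] at hmem
      obtain ⟨s, hs, hsz⟩ := hmem
      exact ⟨s, hs, Ideal.mem_span_singleton.1 hsz⟩
  let p := (U₀.2.primeIdealOf ⟨x, hx⟩).asIdeal
  obtain ⟨f, hf, b, hb, hnzd, hdvd⟩ := CartierExt.exists_equation p J hsat hP
  let W : U.affineOpens := U.affineBasicOpen f
  have hle : W.1 ≤ U₀.1 := U.basicOpen_le f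
  have hxW : x ∈ W.1 := by
    have h2 : U₀.2.primeIdealOf ⟨x, hx⟩ ∈ U₀.2.fromSpec ⁻¹ᵁ U.basicOpen f := by
      rw [U₀.2.fromSpec_preimage_basicOpen]; exact hf
    have h3 : U₀.2.fromSpec (U₀.2.primeIdealOf ⟨x, hx⟩) ∈ U.basicOpen f := h2
    rwa [U₀.2.fromSpec_primeIdealOf] at h3
  let ρ := (U.presheaf.map (homOfLE hle).op).hom
  letI : Algebra B Γ(U, W.1) := ρ.toAlgebra
  haveI : IsLocalization.Away f Γ(U, W.1) := U₀.2.isLocalization_basicOpen f
  refine ⟨W, hxW, ρ b, mem_nonZeroDivisors_iff_right.mpr fun t ht => ?_, le_antisymm ?_ ?_⟩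
  · obtain ⟨⟨z, ⟨_, n, rfl⟩⟩, hz⟩ := IsLocalization.surj (Submonoid.powers f) t
    have h1 : algebraMap B Γ(U, W.1) (z * b) = 0 := by
      rw [map_mul, ← hz, mul_right_comm]
      show t * ρ b * _ = 0
      rw [ht, zero_mul]
    obtain ⟨⟨_, k, rfl⟩, hk⟩ := (IsLocalization.map_eq_zero_iff (Submonoid.powers f) _ _).1 h1
    have h2 := hnzd (f ^ k * z) (by rw [mul_assoc]; exact hk)
    have h3 : algebraMap B Γ(U, W.1) z = 0 :=
      (IsLocalization.map_eq_zero_iff (Submonoid.powers f) _ _).2
        ⟨⟨f ^ (k + 1), k + 1, rfl⟩, by show f ^ (k + 1) * z = 0; rw [pow_succ', mul_assoc]; exact h2⟩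
    rw [h3] at hz
    exact (IsLocalization.map_units Γ(U, W.1) (⟨f ^ n, n, rfl⟩ : Submonoid.powers f)).mul_left_eq_zero.1 hz
  · rw [← I.map_ideal (U := W) (V := U₀) hle, Ideal.map_le_iff_le_comap]
    intro z hz
    rw [Ideal.mem_comap]
    refine (Ideal.unit_mul_mem_iff_mem _
      (IsLocalization.map_units Γ(U, W.1) (⟨f, Submonoid.mem_powers f⟩ : Submonoid.powers f))).mp ?_
    show ρ f * ρ z ∈ _
    rw [← map_mul, Ideal.mem_span_singleton]
    exact map_dvd ρ (hdvd z hz)
  · rw [Ideal.span_singleton_le_iff_mem]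
    exact I.ideal_le_comap_ideal (U := W) (V := U₀) hle hb

end Groth.Agent.AlgSpReg.CartierExt
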