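import Groth.Agent.RegImm44.KoszulMor
import Groth.Agent.RegImm38.Seq
import Groth.Agent.RegImm38.BaseChange
import Groth.Agent.RegLoc.H1Append

/-!
# Composition of `H_1`-regular and quasi-regular immersions
-/

universe u

open CategoryTheory CategoryTheory.Limits AlgebraicGeometry TopologicalSpace

set_option autoImplicit false

namespace Groth.Agent.AlgSpReg

open Groth.Agent.RegImm44

theorem get_append {R : Type u} (f g : List R) (i : Fin (f.length + g.length)) :
    Fin.append f.get g.get i = (f ++ g).get (Fin.cast (List.length_append).symm i) := by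
  induction i using Fin.addCases with
  | left i => simp [List.getElem_append_left]
  | right i => simp [List.getElem_append_right]

variable {R R' : Type u} [CommRing R] [CommRing R']

theorem isH1Regular_quot (π : R →+* R') (hπ : Function.Surjective π) {f g : List R}
    (hker : RingHom.ker π = Ideal.ofList f) (hg : CAlgX.IsH1Regular (g.map π).get) :
    CAlgX.IsH1Regular (fun j => Ideal.Quotient.mk (Ideal.span (Set.range f.get)) (g.get j)) := by
  have hspan : Ideal.span (Set.range f.get) = RingHom.ker π := by rw [hker, Ideal.ofList, Set.range_list_get]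
  let e : R ⧸ Ideal.span (Set.range f.get) ≃+* R' :=
    (Ideal.quotEquivOfEq hspan).trans (RingHom.quotientKerEquivOfSurjective hπ)
  have hg' : CAlgX.IsH1Regular (fun j => π (g.get j)) :=
    RegImm38.congr_cast (fun {n} h => CAlgX.IsH1Regular h) (List.length_map π)
      (fun i => by simp) hg
  have h2 := RegImm38.isH1Regular_of_ringEquiv e.symm hg'
  convert h2 using 2 with j
  exact (e.symm_apply_apply (Ideal.Quotient.mk _ (g.get j))).symm.trans (congrArg e.symm rfl)

theorem seq_h1_append (π : R →+* R') (hπ : Function.Surjective π) {f g : List R}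
    (hf : RegImm.Kind.h1.Seq R f) (hker : RingHom.ker π = Ideal.ofList f) (hg : RegImm.Kind.h1.Seq R' (g.map π)) :
    RegImm.Kind.h1.Seq R (f ++ g) :=
  RegImm38.congr_cast (fun {n} h => CAlgX.IsH1Regular h) (List.length_append).symm (get_append f g)
    (RegLoc.H1Seq.isH1Regular_append f.get g.get hf (isH1Regular_quot π hπ hker hg))

theorem seq_quasi_append (π : R →+* R') (hπ : Function.Surjective π) {f g : List R}
    (hf : RegImm.Kind.quasi.Seq R f) (hker : RingHom.ker π = Ideal.ofList f) (hg : RegImm.Kind.h1.Seq R' (g.map π)) :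
    RegImm.Kind.quasi.Seq R (f ++ g) :=
  RegImm38.congr_cast (fun {n} h => CAlgX.IsQuasiRegular h) (List.length_append).symm (get_append f g)
    (RegLoc.H1Seq.isQuasiRegular_append f.get g.get hf (isH1Regular_quot π hπ hker hg))

variable {X Y Z : Scheme.{u}}

/-- A composite of regular immersions is regular, for kinds with an appending lemma. -/
theorem isRegularImmersion_comp_of_append {k₁ k₂ k : RegImm.Kind}
    (happ : ∀ {R R' : Type u} [CommRing R] [CommRing R'] (π : R →+* R'), Function.Surjective π → ∀ {f g : List R},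
      k₂.Seq R f → RingHom.ker π = Ideal.ofList f → k₁.Seq R' (g.map π) → k.Seq R (f ++ g))
    (i : Y ⟶ X) (j : Z ⟶ Y)
    (hi : RegImm.IsRegularImmersion k₂ i) (hj : RegImm.IsRegularImmersion k₁ j) :
    RegImm.IsRegularImmersion k (j ≫ i) := by
  haveI := hi.1
  haveI := hj.1
  refine ⟨inferInstance, fun z => ?_⟩
  obtain ⟨⟨U, hU⟩, hzU, hciU, f, hf, hfker⟩ := hi.2 (j z)
  obtain ⟨⟨V, hV⟩, hzV, hciV, g, hg, hgker⟩ := hj.2 z
  haveI := hciU
  haveI := hciV
  obtain ⟨h, h', hh, hzh⟩ := exists_basicOpen_le_affine_inter (isAffineOpen_preimage i hU) hV (j z) ⟨hzU, hzV⟩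
  obtain ⟨s, rfl⟩ := app_surjective i hU h
  have hWU : X.basicOpen s ≤ U := X.basicOpen_le s
  have hpre : i ⁻¹ᵁ X.basicOpen s = Y.basicOpen ((i.app U).hom s) := Scheme.preimage_basicOpen i s
  have hWV : i ⁻¹ᵁ X.basicOpen s ≤ V := by
    rw [hpre, hh]; exact Y.basicOpen_le h'
  have hW : IsAffineOpen (X.basicOpen s) := hU.basicOpen s
  haveI := isClosedImmersion_restrict_of_le i hWU
  haveI := isClosedImmersion_restrict_of_le j hWV
  have hpaff : IsAffineOpen (i ⁻¹ᵁ X.basicOpen s) := isAffineOpen_preimage i hW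
  have hzW : j z ∈ i ⁻¹ᵁ X.basicOpen s := by rw [hpre]; exact hzh
  let ρ := (X.presheaf.map (homOfLE hWU).op).hom
  let σ := (Y.presheaf.map (homOfLE hWV).op).hom
  have hf'ker : RingHom.ker (i.app (X.basicOpen s)).hom = Ideal.ofList (f.map ρ) := by
    rw [ker_app_restrict i hU hW hWU, hfker, Ideal.map_ofList]
  have hg'ker : RingHom.ker (j.app (i ⁻¹ᵁ X.basicOpen s)).hom = Ideal.ofList (g.map σ) := by
    rw [ker_app_restrict j hV hpaff hWV, hgker, Ideal.map_ofList]
  have hf' : k₂.Seq Γ(X, X.basicOpen s) (f.map ρ) :=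
    RegImm38.seq_map_flat k₂ ρ (flat_restrictionMap hU hW hWU) hf
      (RegImm38.ofList_ne_top i hW (j z) hzW hf'ker)
  have hg' : k₁.Seq Γ(Y, i ⁻¹ᵁ X.basicOpen s) (g.map σ) :=
    RegImm38.seq_map_flat k₁ σ (flat_restrictionMap hV hpaff hWV) hg
      (RegImm38.ofList_ne_top j hpaff z hzW hg'ker)
  have hsurj := app_surjective i hW
  obtain ⟨g'', hg''⟩ := List.map_surjective_iff.2 hsurj (g.map σ)
  refine ⟨⟨X.basicOpen s, hW⟩, hzW, ?_, f.map ρ ++ g'', happ _ hsurj hf' hf'ker (by rw [hg'']; exact hg'), ?_⟩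
  · change IsClosedImmersion ((j ≫ i) ∣_ X.basicOpen s)
    rw [morphismRestrict_comp]
    exact IsClosedImmersion.comp (j ∣_ i ⁻¹ᵁ X.basicOpen s) (i ∣_ X.basicOpen s)
  · change RingHom.ker ((j ≫ i).app (X.basicOpen s)).hom = _
    rw [Scheme.Hom.comp_app]
    change RingHom.ker ((j.app (i ⁻¹ᵁ X.basicOpen s)).hom.comp (i.app (X.basicOpen s)).hom) = _
    rw [← RingHom.comap_ker, hg'ker, ← hg'', ← Ideal.map_ofList, Ideal.comap_map_of_surjective _ hsurj,
      Ideal.ofList_append, ← hf'ker, sup_comm, ← RingHom.ker_eq_comap_bot]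

theorem isRegularImmersion_h1_comp (i : Y ⟶ X) (j : Z ⟶ Y) (hi : RegImm.IsRegularImmersion .h1 i)
    (hj : RegImm.IsRegularImmersion .h1 j) : RegImm.IsRegularImmersion .h1 (j ≫ i) :=
  isRegularImmersion_comp_of_append seq_h1_append i j hi hj

theorem isRegularImmersion_quasi_comp (i : Y ⟶ X) (j : Z ⟶ Y) (hi : RegImm.IsRegularImmersion .quasi i)
    (hj : RegImm.IsRegularImmersion .h1 j) : RegImm.IsRegularImmersion .quasi (j ≫ i) :=
  isRegularImmersion_comp_of_append seq_quasi_append i j hi hj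

end Groth.Agent.AlgSpReg
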