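import Groth.Agent.AlgSpReg.Local
import Groth.Agent.AlgSp.DescentImm
import Groth.Agent.AlgSpB.Points

/-!
# Flat base change of regular immersions of algebraic spaces
-/

universe u

open CategoryTheory CategoryTheory.Limits AlgebraicGeometry Opposite

set_option backward.isDefEq.respectTransparency false
set_option backward.isDefEq.respectTransparency.types false
set_option autoImplicit false

namespace Groth.Agent.AlgSpReg

open _root_.AlgSp

variable {S : Scheme.{u}} {k : RegImm.Kind}

theorem isRegularImmersion_of_iso {A B C : Scheme.{u}} (e : A ≅ B) {j : B ⟶ C} {j' : A ⟶ C} (he : e.hom ≫ j = j')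
    (h : RegImm.IsRegularImmersion k j) : RegImm.IsRegularImmersion k j' :=
  he ▸ isRegularImmersion_of_flat_open.isRegularImmersion_iso_comp e j k h

/-- A regular immersion descends along etale surjections. -/
theorem isRegularImmersion_of_etale_cover {Z X X' : Scheme.{u}} (i : Z ⟶ X) (g : X' ⟶ X) [Etale g] [Surjective g]
    (hk : k ≠ RegImm.Kind.regular) {P : Scheme.{u}} {g' : P ⟶ Z} {i' : P ⟶ X'} (sq : IsPullback g' i' i g)
    (h : RegImm.IsRegularImmersion k i') : RegImm.IsRegularImmersion k i := by
  have h' : RegImm.IsRegularImmersion k (pullback.snd i g) :=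
    isRegularImmersion_of_iso sq.isoPullback.symm sq.isoPullback_inv_snd h
  have : IsImmersion i :=
    MorphismProperty.of_isPullback_of_descendsAlong (P := @IsImmersion)
      (Q := @Surjective ⊓ @Flat ⊓ @LocallyOfFinitePresentation) sq.flip ⟨⟨inferInstance, inferInstance⟩, inferInstance⟩
      h.1
  exact isRegularImmersion_of_flat_open i g g.isOpenMap k hk h'

/-- Flat base change of a regular immersion of algebraic spaces. -/
theorem isRegImmMor_baseChange {Z X X' P : Space S} (i : Z ⟶ X) (g : X' ⟶ X) (hk : k ≠ RegImm.Kind.regular)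
    (hi : IsRegImmMor k i.hom) (hg : LocP @Flat g.hom) {fst : P ⟶ Z} {i' : P ⟶ X'}
    (sq : IsPullback fst.hom i'.hom i.hom g.hom) : IsRegImmMor k i'.hom := by
  refine ⟨MorphismProperty.of_isPullback sq hi.1, fun V' W' b' fst' snd hb' sq' => ?_⟩
  obtain ⟨A, α, hα, hαs⟩ := X.property.atlas
  obtain ⟨A', a₂, a₁, sA⟩ := hi.1 α
  have hA : RegImm.IsRegularImmersion k a₂.left := hi.2 α a₁ a₂ hα sA
  obtain ⟨W, p, q₀, sW⟩ := hα.1 (b' ≫ g.hom)
  obtain ⟨q, rfl⟩ := (yon S).map_surjective q₀
  have hpe : Etale p.left := hα.2 _ _ _ sW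
  have hps : Surjective p.left := hαs.2 _ _ _ sW
  have hq : Flat q.left := hg ((yon S).map p ≫ b') α q
    ((RepWith _).comp_mem _ _ ((repWith_yon_map_iff _ p).2 hpe) hb') hα
    ((Category.assoc _ _ _).trans sW.w.symm)
  -- the two descriptions of the base change to `W`
  let R := pullback snd p
  have sR : IsPullback ((yon S).map (pullback.fst snd p)) ((yon S).map (pullback.snd snd p)) ((yon S).map snd)
      ((yon S).map p) := (IsPullback.of_hasPullback snd p).map (yon S)
  have s1 : IsPullback ((yon S).map (pullback.fst snd p) ≫ fst' ≫ fst.hom) ((yon S).map (pullback.snd snd p))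
      i.hom ((yon S).map q ≫ α) := by
    rw [sW.w]
    exact sR.paste_horiz (sq'.paste_horiz sq)
  obtain ⟨l₀, hl₁, hl₂⟩ := sA.exists_lift ((yon S).map (pullback.fst snd p) ≫ fst' ≫ fst.hom)
    ((yon S).map (pullback.snd snd p ≫ q)) (by rw [Functor.map_comp, Category.assoc]; exact s1.w)
  obtain ⟨l, rfl⟩ := (yon S).map_surjective l₀
  have s2 : IsPullback ((yon S).map l) ((yon S).map (pullback.snd snd p)) ((yon S).map a₂) ((yon S).map q) := by
    refine IsPullback.of_right ?_ (by rw [hl₂, Functor.map_comp]) sA
    rw [hl₁]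
    exact s1
  have w2 : l ≫ a₂ = pullback.snd snd p ≫ q := (yon S).map_injective (by rw [Functor.map_comp]; exact hl₂)
  have s3 := (IsPullback.of_map (yon S) w2 s2).map (Over.forget S)
  have h3 : RegImm.IsRegularImmersion k (pullback.snd snd p).left := by
    have := Groth.Agent.S8906.result a₂.left k hA q.left
    exact isRegularImmersion_of_iso s3.isoPullback s3.isoPullback_hom_snd this
  have s4 := (IsPullback.of_hasPullback snd p).map (Over.forget S)
  exact isRegularImmersion_of_etale_cover snd.left p.left hk s4 h3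

end Groth.Agent.AlgSpReg
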