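import Groth.Agent.AlgSpReg.LciScheme
import Groth.Agent.AlgSpReg.FibQuasi
import Groth.Agent.RegImm38.BaseChange
import Groth.Agent.S8894
import Groth.Agent.S8905
import Groth.Agent.AlgSpEN.RegKinds
import Groth.Agent.KReg44.Weakly

/-!
# The Koszul locus of a morphism of flat, finitely presented schemes over a base, and base change
-/

universe u

open CategoryTheory CategoryTheory.Limits AlgebraicGeometry TopologicalSpace

set_option backward.isDefEq.respectTransparency false
set_option backward.isDefEq.respectTransparency.types false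
set_option autoImplicit false

namespace Groth.Agent.AlgSpReg

/-- A regular immersion near a point restricts to a regular immersion over an affine neighbourhood. -/
theorem exists_restrict_of_isRegularImmersionAt {Z X : Scheme.{u}} (i : Z ⟶ X) {k : RegImm.Kind} {z : Z}
    (h : RegImm.IsRegularImmersionAt k i z) :
    ∃ U : X.Opens, i z ∈ U ∧ RegImm.IsRegularImmersion k (i ∣_ U) := by
  obtain ⟨⟨U, hU⟩, hz, hci, rs, hrs, hker⟩ := h
  have := hci
  refine ⟨U, hz, inferInstance, fun w => ?_⟩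
  have hU' : IsAffineOpen (⊤ : U.toScheme.Opens) := @isAffineOpen_top _ hU
  refine ⟨⟨⊤, hU'⟩, trivial, inferInstance, ?_⟩
  rw [morphismRestrict_app]
  have he : U.ι ''ᵁ ⊤ = U := U.ι_image_top
  have key : ∀ (U₁ : X.Opens) (e : U₁ = U), ∃ rs : List Γ(X, U₁), k.Seq Γ(X, U₁) rs ∧
      RingHom.ker (i.app U₁).hom = Ideal.ofList rs := by
    rintro U₁ rfl
    exact ⟨rs, hrs, hker⟩
  obtain ⟨rs', hrs', hker'⟩ := key _ he
  refine ⟨rs', hrs', ?_⟩
  refine Eq.trans ?_ hker'
  change RingHom.ker (RingHom.comp _ (i.app (U.ι ''ᵁ ⊤)).hom) = _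
  exact RingHom.ker_comp_of_injective _
    (ConcreteCategory.bijective_of_isIso _).1

/-- Regularity at a point descends along flat open maps. -/
theorem isRegularImmersionAt_of_flat_open {Z X Z' X' : Scheme.{u}} {i : Z ⟶ X} {g : X' ⟶ X} {i' : Z' ⟶ X'}
    {g' : Z' ⟶ Z} (sq : IsPullback g' i' i g) [IsImmersion i] [Flat g] (hg : IsOpenMap g) {k : RegImm.Kind}
    (hk : k ≠ RegImm.Kind.regular) {z' : Z'} (h : RegImm.IsRegularImmersionAt k i' z') :
    RegImm.IsRegularImmersionAt k i (g' z') := by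
  obtain ⟨Q', hz', hQ'⟩ := exists_restrict_of_isRegularImmersionAt i' h
  let O : X.Opens := ⟨g '' Q', hg _ Q'.isOpen⟩
  let g₀ : Q'.toScheme ⟶ O.toScheme := IsOpenImmersion.lift O.ι (Q'.ι ≫ g) (by
    rw [Scheme.Opens.range_ι]
    rintro _ ⟨q, rfl⟩
    exact ⟨q.1, q.2, rfl⟩)
  have hg₀ : g₀ ≫ O.ι = Q'.ι ≫ g := IsOpenImmersion.lift_fac _ _ _
  have : Flat g₀ := by
    have hf : Flat (g₀ ≫ O.ι) := by rw [hg₀]; infer_instance
    exact MorphismProperty.of_postcomp (W := @Flat) (W' := @IsOpenImmersion) g₀ O.ι inferInstance hf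
  have hg₀o : IsOpenMap g₀ := fun s hs => by
    have : g₀ '' s = O.ι ⁻¹' (g '' (Q'.ι '' s)) := by
      ext z
      refine ⟨?_, ?_⟩
      · rintro ⟨b, hb, rfl⟩
        exact ⟨Q'.ι b, ⟨b, hb, rfl⟩, by rw [← Scheme.Hom.comp_apply, ← Scheme.Hom.comp_apply, hg₀]⟩
      · rintro ⟨_, ⟨b, hb, rfl⟩, hbz⟩
        refine ⟨b, hb, O.ι.isOpenEmbedding.injective ?_⟩
        rw [← hbz, ← Scheme.Hom.comp_apply, hg₀, Scheme.Hom.comp_apply]
    rw [this]
    exact (hg _ (Q'.ι.isOpenEmbedding.isOpenMap s hs)).preimage O.ι.continuous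
  have : Surjective g₀ := ⟨fun z => by
    obtain ⟨b, hb, hbz⟩ := z.2
    exact ⟨⟨b, hb⟩, O.ι.isOpenEmbedding.injective (by rw [← Scheme.Hom.comp_apply, hg₀]; exact hbz)⟩⟩
  have hmem : i (g' z') ∈ O := ⟨i' z', hz', by rw [← Scheme.Hom.comp_apply, ← sq.w, Scheme.Hom.comp_apply]⟩
  have top := (isPullback_morphismRestrict i' Q').paste_vert sq.flip
  obtain ⟨r, hr₁, hr₂⟩ := (isPullback_morphismRestrict i O).exists_lift ((i' ∣_ Q') ≫ g₀) ((i' ⁻¹ᵁ Q').ι ≫ g')
    (by rw [Category.assoc, hg₀, ← reassoc_of% (isPullback_morphismRestrict i' Q').w.symm, Category.assoc, sq.w])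
  have sq₀ : IsPullback r (i' ∣_ Q') (i ∣_ O) g₀ := by
    refine IsPullback.of_right (h₁₂ := (i ⁻¹ᵁ O).ι) ?_ hr₁ (isPullback_morphismRestrict i O).flip
    rw [hr₂, hg₀]
    exact ((isPullback_morphismRestrict i' Q').flip.paste_horiz sq)
  have : IsImmersion (i ∣_ O) := MorphismProperty.of_isPullback (isPullback_morphismRestrict i O).flip ‹IsImmersion i›
  refine isRegularImmersionAt_of_restrict i k O _ hmem ?_
  exact isRegularImmersion_of_flat_open (i ∣_ O) g₀ hg₀o k hk
    (isRegularImmersion_of_flat_open.isRegularImmersion_iso_comp sq₀.isoPullback.symm (i' ∣_ Q') k hQ' |>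
      fun h => sq₀.isoPullback_inv_snd ▸ h)

/-- Koszul-regular immersions are quasi-regular, pointwise. -/
theorem quasi_of_koszul_at {Z X : Scheme.{u}} {i : Z ⟶ X} {z : Z} (h : RegImm.IsRegularImmersionAt .koszul i z) :
    RegImm.IsRegularImmersionAt .quasi i z := by
  obtain ⟨U, hU, hc, rs, hrs, e⟩ := h
  exact ⟨U, hU, hc, rs, RegLoc.H1Seq.isQuasiRegular rs.get (AlgSpEN.seq_h1_of_koszul hrs), e⟩

variable {X Y Z X' Y' Z' : Scheme.{u}} {f : X ⟶ Y} {q : Y ⟶ Z} {g : Z' ⟶ Z} {gY : Y' ⟶ Y} {q' : Y' ⟶ Z'}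
  {gX : X' ⟶ X} {f' : X' ⟶ Y'}

theorem exists_presentation_baseChange (hY : IsPullback gY q' q g) (hX : IsPullback gX f' f gY)
    {T P : Scheme.{u}} (c : T ⟶ P) (o : T ⟶ X) [IsOpenImmersion o] (π : P ⟶ Y) [Smooth π] (w : c ≫ π = o ≫ f)
    (x' : X') (hx : gX x' ∈ Set.range o) :
    ∃ (π' : pullback (π ≫ q) g ⟶ Y') (o' : pullback c (pullback.fst (π ≫ q) g) ⟶ X'),
      Smooth π' ∧ π' ≫ q' = pullback.snd (π ≫ q) g ∧ IsOpenImmersion o' ∧
        pullback.snd c (pullback.fst (π ≫ q) g) ≫ π' = o' ≫ f' ∧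
        o' ≫ gX = pullback.fst c (pullback.fst (π ≫ q) g) ≫ o ∧ x' ∈ Set.range o' := by
  obtain ⟨π', hπ'₁, hπ'₂⟩ := hY.exists_lift (pullback.fst (π ≫ q) g ≫ π) (pullback.snd (π ≫ q) g)
    (by rw [Category.assoc]; exact pullback.condition)
  have sP : IsPullback (pullback.fst (π ≫ q) g) π' π gY := by
    refine IsPullback.of_bot ?_ hπ'₁.symm hY
    rw [hπ'₂]
    exact IsPullback.of_hasPullback _ _
  have hπ' : Smooth π' := MorphismProperty.of_isPullback (P := @Smooth) sP ‹Smooth π›
  have sc := IsPullback.of_hasPullback c (pullback.fst (π ≫ q) g)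
  have big := sc.paste_vert sP
  rw [w] at big
  obtain ⟨o', ho'₁, ho'₂⟩ := hX.exists_lift (pullback.fst c (pullback.fst (π ≫ q) g) ≫ o)
    (pullback.snd c (pullback.fst (π ≫ q) g) ≫ π') (by rw [Category.assoc, big.w])
  have so : IsPullback (pullback.fst c (pullback.fst (π ≫ q) g)) o' o gX := by
    refine IsPullback.of_bot ?_ ho'₁.symm hX
    rw [ho'₂]
    exact big
  refine ⟨π', o', hπ', hπ'₂, MorphismProperty.of_isPullback (P := @IsOpenImmersion) so inferInstance,
    ho'₂.symm, ho'₁, ?_⟩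
  obtain ⟨t, ht⟩ := hx
  obtain ⟨e, -, he⟩ := Scheme.Pullback.exists_preimage_pullback t x' ht
  exact ⟨so.isoPullback.inv e, by rw [← Scheme.Hom.comp_apply, so.isoPullback_inv_snd]; exact he⟩

/-- A Koszul morphism of flat, finitely presented schemes over a base stays Koszul after base change. -/
theorem lci_baseChange_of_flat [Flat q] [LocallyOfFinitePresentation q] [Flat (f ≫ q)] (hY : IsPullback gY q' q g)
    (hX : IsPullback gX f' f gY) (hf : AlgSp.lci f) : AlgSp.lci f' := by
  have : LocallyOfFiniteType f := RegImm44.locallyOfFiniteType_of_isKoszulAt hf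
  intro x'
  obtain ⟨A, I, o, π, ho, hx, hπ, w⟩ := exists_affine_presentation f (gX x')
  let c := Spec.map (CommRingCat.ofHom (Ideal.Quotient.mk I))
  have : IsClosedImmersion c := IsClosedImmersion.spec_of_surjective _ Ideal.Quotient.mk_surjective
  obtain ⟨π', o', hπ', hq', ho', w', -, hx'⟩ := exists_presentation_baseChange hY hX c o π w x' hx
  have hci : RegImm.IsRegularImmersion .koszul c :=
    RegImm44.isRegularImmersion_of_isKoszulAt (lci_smooth_comp o f hf) π c w
  have : Flat (c ≫ π ≫ q) := by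
    rw [reassoc_of% w]
    infer_instance
  have hrel : RegImm.IsRelRegularImmersion .quasi (π ≫ q) c :=
    ⟨⟨inferInstance, fun t => quasi_of_koszul_at (hci.2 t)⟩, this⟩
  have hreg := (S8905.result _).1 ((S8894.result (π ≫ q) c hrel).2 Z' g)
  obtain ⟨t, rfl⟩ := hx'
  refine isKoszulAt_of_openImmersion_comp o' f' t ?_
  rw [← w']
  exact lci_comp_smooth _ (fun y => Groth.Agent.S10665.isKoszulAt_of_immersion _ hreg y) π' t

/-- Being Koszul at a point is preserved by base change, for flat finitely presented schemes over a base. -/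
theorem isKoszulAt_baseChange [Flat q] [LocallyOfFinitePresentation q] [Flat (f ≫ q)]
    (hY : IsPullback gY q' q g) (hX : IsPullback gX f' f gY) {x' : X'}
    (h : Synt.IsKoszulAt f (gX x')) : Synt.IsKoszulAt f' x' := by
  obtain ⟨U, P, i, π, hxU, hlft, hi, hπ, hfac⟩ := h
  have := hπ
  have hU : AlgSp.lci (U.ι ≫ f) := fun u => by
    rw [← hfac]
    exact lci_comp_smooth i (fun y => Groth.Agent.S10665.isKoszulAt_of_immersion i hi y) π u
  have : Flat ((U.ι ≫ f) ≫ q) := by rw [Category.assoc]; infer_instance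
  have sq := (isPullback_morphismRestrict gX U).flip
  have hU' := lci_baseChange_of_flat (f := U.ι ≫ f) (f' := (gX ⁻¹ᵁ U).ι ≫ f') hY
    ((isPullback_morphismRestrict gX U).paste_vert hX) hU
  exact isKoszulAt_of_openImmersion_comp (gX ⁻¹ᵁ U).ι f' ⟨x', hxU⟩ (hU' ⟨x', hxU⟩)

/-- Base change of fibres is flat and open. -/
theorem exists_fibre_cover {P S S' : Scheme.{u}} (φ : P ⟶ S) {g : S' ⟶ S} {P' : Scheme.{u}} {gP : P' ⟶ P}
    {φ' : P' ⟶ S'} (sq : IsPullback gP φ' φ g) (p : P') :
    ∃ (P'' : Scheme.{u}) (j : P'' ⟶ P') (χ : P'' ⟶ Spec (S'.residueField (φ' p))) (r : P'' ⟶ φ.fiber (g (φ' p))),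
      IsPullback j χ φ' (S'.fromSpecResidueField (φ' p)) ∧ p ∈ Set.range j ∧
      r ≫ φ.fiberι (g (φ' p)) = j ≫ gP ∧ Flat r ∧ IsOpenMap r := by
  let s' := φ' p
  have sj := IsPullback.of_hasPullback φ' (S'.fromSpecResidueField s')
  have big := sj.paste_horiz sq
  let e := g.residueFieldMap s'
  obtain ⟨r, hr₁, hr₂⟩ := (IsPullback.of_hasPullback φ (S.fromSpecResidueField (g s'))).exists_lift
    (pullback.fst φ' (S'.fromSpecResidueField s') ≫ gP) (pullback.snd φ' (S'.fromSpecResidueField s') ≫ Spec.map e)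
    (by rw [big.w, Category.assoc, Scheme.Hom.SpecMap_residueFieldMap_fromSpecResidueField])
  have sr : IsPullback r (pullback.snd φ' (S'.fromSpecResidueField s')) (pullback.snd φ (S.fromSpecResidueField (g s')))
      (Spec.map e) := by
    refine IsPullback.of_right ?_ hr₂ (IsPullback.of_hasPullback φ (S.fromSpecResidueField (g s')))
    rw [hr₁, Scheme.Hom.SpecMap_residueFieldMap_fromSpecResidueField]
    exact big
  have he₁ : Flat (Spec.map e) := inferInstance
  have he₂ : UniversallyOpen (Spec.map e) := inferInstance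
  have : UniversallyOpen r := MorphismProperty.of_isPullback (P := @UniversallyOpen) sr.flip he₂
  obtain ⟨t, ht, -⟩ := Scheme.Pullback.exists_preimage_pullback (f := φ') (g := S'.fromSpecResidueField s') p
    (IsLocalRing.closedPoint _) (by rw [Scheme.fromSpecResidueField_apply])
  exact ⟨_, _, _, r, sj, ⟨t, ht⟩, hr₁, MorphismProperty.of_isPullback (P := @Flat) sr.flip he₁, r.isOpenMap⟩

/-- A closed immersion which is Koszul-regular at a point after base change is so before. -/
theorem isRegularImmersionAt_of_baseChange {T P S S' : Scheme.{u}} (c : T ⟶ P) [IsClosedImmersion c] (φ : P ⟶ S)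
    [Flat φ] [LocallyOfFinitePresentation φ] [Flat (c ≫ φ)] [LocallyOfFinitePresentation (c ≫ φ)]
    {g : S' ⟶ S} {P' T' : Scheme.{u}} {gP : P' ⟶ P} {φ' : P' ⟶ S'} (sP : IsPullback gP φ' φ g)
    {c' : T' ⟶ P'} {gT : T' ⟶ T} (sT : IsPullback gT c' c gP) {t' : T'}
    (h : RegImm.IsRegularImmersionAt .quasi c' t') : RegImm.IsRegularImmersionAt .koszul c (gT t') := by
  obtain ⟨P'', j, χ, r, sj, ⟨p'', hp''⟩, hr, hrf, hro⟩ := exists_fibre_cover φ sP (c' t')
  obtain ⟨t'', ht₁, ht₂⟩ := Scheme.Pullback.exists_preimage_pullback (f := c') (g := j) t' p'' hp''.symm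
  have sT'' := IsPullback.of_hasPullback c' j
  have : Flat (c' ≫ φ') :=
    MorphismProperty.of_isPullback (P := @Flat) (sT.paste_vert sP) inferInstance
  have h'' : RegImm.IsRegularImmersionAt .quasi (pullback.snd c' j) t'' :=
    RegImm38.isRegularImmersionAt_of_isPullback sj sT'' .quasi (Or.inr rfl) t'' (by rw [ht₁]; exact h)
  -- the fibre
  let z := g (φ' (c' t'))
  have big : IsPullback (pullback.fst c' j ≫ gT) (pullback.snd c' j) c (r ≫ φ.fiberι z) := by
    rw [hr]
    exact sT''.paste_horiz sT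
  obtain ⟨s₀, hs₁, hs₂⟩ := (IsPullback.of_hasPullback c (φ.fiberι z)).exists_lift (pullback.fst c' j ≫ gT)
    (pullback.snd c' j ≫ r) (by rw [big.w, Category.assoc])
  have ss : IsPullback s₀ (pullback.snd c' j) (pullback.snd c (φ.fiberι z)) r := by
    refine IsPullback.of_right ?_ hs₂ (IsPullback.of_hasPullback c (φ.fiberι z))
    rw [hs₁]
    exact big
  have hz : RegImm.IsRegularImmersionAt .quasi (pullback.snd c (φ.fiberι z)) (s₀ t'') :=
    isRegularImmersionAt_of_flat_open ss hro (by decide) h''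
  have hzt : pullback.fst c (φ.fiberι z) (s₀ t'') = gT t' := by
    rw [← Scheme.Hom.comp_apply, hs₁, Scheme.Hom.comp_apply, ht₁]
  -- compare with the subscheme of the kernel
  let e := c.toImage
  have he : e ≫ c.imageι = c := c.toImage_imageι
  have : IsIso e := inferInstance
  have : Flat (c.ker.subschemeι ≫ φ) := by
    have : Flat (e ≫ c.ker.subschemeι ≫ φ) := by rw [show e ≫ c.ker.subschemeι ≫ φ = c ≫ φ from (Category.assoc _ _ _).symm.trans (congrArg (· ≫ φ) he)]; infer_instance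
    exact (MorphismProperty.cancel_left_of_respectsIso @Flat e _).1 this
  have : LocallyOfFinitePresentation (c.ker.subschemeι ≫ φ) := by
    have : LocallyOfFinitePresentation (e ≫ c.ker.subschemeι ≫ φ) := by
      rw [show e ≫ c.ker.subschemeι ≫ φ = c ≫ φ from (Category.assoc _ _ _).symm.trans (congrArg (· ≫ φ) he)]
      infer_instance
    exact (MorphismProperty.cancel_left_of_respectsIso @LocallyOfFinitePresentation e _).1 this
  have hfib : ∀ (s : S) (w : ↥(pullback c.ker.subschemeι (φ.fiberι s))),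
      φ.fiberι s (pullback.snd c.ker.subschemeι (φ.fiberι s) w) = c (gT t') →
        RegImm.IsRegularImmersionAt .quasi (pullback.snd c.ker.subschemeι (φ.fiberι s)) w := by
    intro s w hw
    have hs : s = z := by
      have h1 : φ (φ.fiberι s (pullback.snd c.ker.subschemeι (φ.fiberι s) w)) = s := by
        have := Set.ext_iff.1 (φ.range_fiberι s) (φ.fiberι s (pullback.snd c.ker.subschemeι (φ.fiberι s) w))
        exact this.1 ⟨_, rfl⟩
      rw [← h1, hw, ← hzt, ← Scheme.Hom.comp_apply (pullback.fst c (φ.fiberι z)) c, pullback.condition,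
        Scheme.Hom.comp_apply]
      exact (Set.ext_iff.1 (φ.range_fiberι z) _).1 ⟨_, rfl⟩
    subst hs
    let m := pullback.map c (φ.fiberι z) c.ker.subschemeι (φ.fiberι z) e (𝟙 _) (𝟙 _)
      (by rw [Category.comp_id]; exact he.symm) (by simp)
    have hm : m ≫ pullback.snd c.ker.subschemeι (φ.fiberι z) = pullback.snd c (φ.fiberι z) := by simp [m]
    have hinj : Function.Injective (pullback.snd c.ker.subschemeι (φ.fiberι z)) :=
      (pullback.snd c.ker.subschemeι (φ.fiberι z)).isEmbedding.injective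
    have hmw : m (s₀ t'') = w := hinj ((φ.fiberι z).isEmbedding.injective (by
      rw [hw, ← hzt, ← Scheme.Hom.comp_apply m, hm, ← Scheme.Hom.comp_apply (pullback.fst c (φ.fiberι z)) c, pullback.condition,
        Scheme.Hom.comp_apply]))
    rw [← hmw]
    have : IsIso m := inferInstance
    refine isRegularImmersionAt_of_flat_open (g := 𝟙 _) (g' := m) (i' := pullback.snd c (φ.fiberι z)) ?_
      IsOpenMap.id (by decide) hz
    exact IsPullback.of_horiz_isIso ⟨by rw [Category.comp_id, hm]⟩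
  have hsupp : c (gT t') ∈ c.ker.support := by
    rw [← SetLike.mem_coe, ← Scheme.IdealSheafData.range_subschemeι]
    exact ⟨e (gT t'), by rw [← Scheme.Hom.comp_apply]; exact congr($he (gT t'))⟩
  obtain ⟨W, hxW, rs, hreg, hker⟩ := FibQuasi.exists_chart φ c.ker _ hfib hsupp
  refine ⟨W, hxW, MorphismProperty.of_isPullback (isPullback_morphismRestrict c W.1).flip inferInstance,
    rs, KReg44.isKoszulRegularSeq_of_isWeaklyRegular _ rs rfl hreg, ?_⟩
  rw [← Scheme.Hom.ker_apply, hker]

/-- Being Koszul at a point is detected after base change. -/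
theorem isKoszulAt_of_baseChange_flat [Flat q] [LocallyOfFinitePresentation q] [Flat (f ≫ q)]
    [LocallyOfFinitePresentation (f ≫ q)] (hY : IsPullback gY q' q g) (hX : IsPullback gX f' f gY) {x' : X'}
    (h : Synt.IsKoszulAt f' x') : Synt.IsKoszulAt f (gX x') := by
  obtain ⟨U', Q, i, ρ, hxU, hlft, hi, hρ, hfac⟩ := h
  have := hρ
  have hU : AlgSp.lci (U'.ι ≫ f') := fun u => by
    rw [← hfac]
    exact lci_comp_smooth i (fun y => Groth.Agent.S10665.isKoszulAt_of_immersion i hi y) ρ u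
  have : LocallyOfFiniteType f := locallyOfFiniteType_of_comp f q
  obtain ⟨A, I, o, π, ho, hx, hπ, w⟩ := exists_affine_presentation f (gX x')
  let c := Spec.map (CommRingCat.ofHom (Ideal.Quotient.mk I))
  have : IsClosedImmersion c := IsClosedImmersion.spec_of_surjective _ Ideal.Quotient.mk_surjective
  obtain ⟨π', o', hπ', hq', ho', w', wg, ⟨t', rfl⟩⟩ := exists_presentation_baseChange hY hX c o π w x' hx
  let V := o' ⁻¹ᵁ U'
  let k : V.toScheme ⟶ U'.toScheme := o' ∣_ U'
  have hk : k ≫ U'.ι = V.ι ≫ o' := morphismRestrict_ι o' U'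
  have hV : AlgSp.lci (k ≫ U'.ι ≫ f') := lci_smooth_comp k _ hU
  have hreg : RegImm.IsRegularImmersion .koszul (V.ι ≫ pullback.snd c (pullback.fst (π ≫ q) g)) :=
    RegImm44.isRegularImmersion_of_isKoszulAt hV π' _ (by rw [Category.assoc, w', reassoc_of% hk])
  have hat := quasi_of_koszul_at
    (RegImm44.isRegularImmersionAt_of_ι_comp (pullback.snd c (pullback.fst (π ≫ q) g)) V hreg ⟨t', hxU⟩)
  have : Flat (c ≫ π ≫ q) := by rw [reassoc_of% w]; infer_instance
  have : LocallyOfFinitePresentation (c ≫ π ≫ q) := by rw [reassoc_of% w]; infer_instance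
  have hc := isRegularImmersionAt_of_baseChange c (π ≫ q) (IsPullback.of_hasPullback (π ≫ q) g)
    (IsPullback.of_hasPullback c (pullback.fst (π ≫ q) g)) hat
  obtain ⟨W, hW, hWreg⟩ := exists_restrict_of_isRegularImmersionAt c hc
  rw [← Scheme.Hom.comp_apply o' gX, wg, Scheme.Hom.comp_apply]
  set t := pullback.fst c (pullback.fst (π ≫ q) g) t'
  refine isKoszulAt_of_openImmersion_comp o f t ?_
  refine isKoszulAt_of_openImmersion_comp (c ⁻¹ᵁ W).ι (o ≫ f) ⟨t, hW⟩ ?_
  rw [← w, ← morphismRestrict_ι_assoc]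
  exact lci_comp_smooth _ (fun y => Groth.Agent.S10665.isKoszulAt_of_immersion _ hWreg y) (W.ι ≫ π) _

end Groth.Agent.AlgSpReg
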