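import Groth.Agent.AlgSpReg.LciScheme
import Groth.Agent.AlgSpCov.FpqcBase
import Groth.Agent.AlgSpCov.LocPBasic
import Groth.Agent.AlgSp.Space
import Groth.Agent.AlgSpB.Points
import Groth.Agent.StFib.RepPsh

/-!
# Koszul morphisms of algebraic spaces: flat base change, descent
-/

universe u

open CategoryTheory CategoryTheory.Limits AlgebraicGeometry Opposite

set_option backward.isDefEq.respectTransparency false
set_option backward.isDefEq.respectTransparency.types false
set_option autoImplicit false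

namespace Groth.Agent.AlgSpReg

open _root_.AlgSp Groth.Agent.AlgSpCov

variable {S : Scheme.{u}}

/-- Flat base change of Koszul morphisms of schemes over `S`. -/
theorem lci_of_isPullback {P U V W : Over S} {fst : P ⟶ U} {snd : P ⟶ V} {f : U ⟶ W} {g : V ⟶ W}
    (h : IsPullback ((yon S).map fst) ((yon S).map snd) ((yon S).map f) ((yon S).map g)) (hg : Flat g.left)
    (hf : _root_.AlgSp.lci f.left) : _root_.AlgSp.lci snd.left :=
  Groth.Agent.S8658.result f.left g.left snd.left fst.left (isPullback_left h) hf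

/-- A Koszul morphism of algebraic spaces is Koszul on every chart over a flat test object of the base. -/
theorem lci_chart {F G : Sp S} {f : F ⟶ G} (hF : IsAlgSpace F) (hG : IsAlgSpace G) (hf : IsLCIMor f)
    {W : Over S} {g : (yon S).obj W ⟶ G} (hg : LocP @Flat g) {Q : Sp S} {fst : Q ⟶ F} {snd : Q ⟶ (yon S).obj W}
    (hQ : IsPullback fst snd f g) {U : Over S} {m : (yon S).obj U ⟶ Q} (hm : RepWith @Etale m)
    {h : U ⟶ W} (w : m ≫ snd = (yon S).map h) : _root_.AlgSp.lci h.left := by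
  obtain ⟨U₀, a₀, ha, has⟩ := hF.atlas
  obtain ⟨V, b, hb, hbs⟩ := hG.atlas
  obtain ⟨R₀, s₀, t, hR₀⟩ := Groth.Agent.AlgSpCov.exists_pullback (hG.representable_from_yon (a₀ ≫ f)) b
  have hs₀ : Etale s₀.left := hb.2 _ _ s₀ hR₀.flip
  have ht : _root_.AlgSp.lci t.left := hf ((yon S).map s₀ ≫ a₀) b t
    (repWith_comp ((repWith_yon_map_iff _ _).2 hs₀) ha) hb (by rw [Category.assoc, hR₀.w])
  -- refine the base by the atlas of `G`
  obtain ⟨W', c, d, hW'⟩ := Groth.Agent.AlgSpCov.exists_pullback (hG.representable_from_yon g) b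
  have hc : Etale c.left := hb.2 g _ c hW'.flip
  have hcs : Surjective c.left := hbs.2 g _ c hW'.flip
  have hd : Flat d.left := hg ((yon S).map c) b d ((repWith_yon_map_iff _ _).2 hc) hb hW'.w
  have hQc := IsPullback.of_hasPullback snd ((yon S).map c)
  set q₁ := pullback.fst snd ((yon S).map c)
  set q₂ := pullback.snd snd ((yon S).map c)
  have hQ' : IsPullback (q₁ ≫ fst) q₂ f ((yon S).map c ≫ g) := hQc.paste_horiz hQ
  -- pull back the chart
  have hU' := IsPullback.of_hasPullback h c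
  set eU := pullback.fst h c
  set h' := pullback.snd h c
  let m' := hQc.lift ((yon S).map eU ≫ m) ((yon S).map h')
    (by rw [Category.assoc, w, ← Functor.map_comp, ← Functor.map_comp, hU'.w])
  have hUy : IsPullback ((yon S).map eU) ((yon S).map h') (m ≫ snd) ((yon S).map c) := by
    rw [w]; exact hU'.map (yon S)
  have hm'sq : IsPullback ((yon S).map eU) m' m q₁ := by
    refine IsPullback.of_bot ?_ (by simp [m']) hQc
    simpa [m'] using hUy
  have hm' : RepWith @Etale m' := repWith_bc hm'sq hm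
  -- the atlas over the refined base
  obtain ⟨R, r₁, r₂, hR⟩ := Groth.Agent.AlgSpCov.exists_pullback (hG.representable_from_yon (a₀ ≫ f))
    ((yon S).map c ≫ g)
  let k := hQ'.lift ((yon S).map r₁ ≫ a₀) ((yon S).map r₂) (by simpa using hR.w)
  have hk : IsPullback ((yon S).map r₁) k a₀ (q₁ ≫ fst) := by
    refine IsPullback.of_bot ?_ (by simp [k]) hQ'
    simpa [k] using hR
  have hke : RepWith @Etale k := repWith_bc hk ha
  have hks : RepWith @Surjective k := repWith_bc hk has
  have hr₂ : _root_.AlgSp.lci r₂.left := by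
    have hw : ((yon S).map r₁) ≫ (a₀ ≫ f) = ((yon S).map r₂ ≫ (yon S).map d) ≫ b := by
      rw [hR.w, Category.assoc, hW'.w]
    obtain ⟨l, hl⟩ := (yon S).map_surjective (hR₀.lift _ _ hw)
    refine lci_of_isPullback (fst := l) ?_ hd ht
    refine IsPullback.of_right ?_ (by rw [hl, hR₀.lift_snd]) hR₀
    rw [hl, hR₀.lift_fst, ← hW'.w]
    exact hR
  -- compare the two
  obtain ⟨R₁, e, e', hR₁⟩ := Groth.Agent.AlgSpCov.exists_pullback hke.1 m'
  have he : Etale e.left := hm'.2 k _ e hR₁.flip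
  have he' : Etale e'.left := hke.2 m' _ e' hR₁
  have hes' : Surjective e'.left := hks.2 m' _ e' hR₁
  have hee : e ≫ r₂ = e' ≫ h' := (yon S).map_injective (by
    rw [Functor.map_comp, Functor.map_comp, show (yon S).map r₂ = k ≫ q₂ by simp [k],
      show (yon S).map h' = m' ≫ q₂ by simp [m'], hR₁.w_assoc])
  refine etaleLocal_lci.descend h'.left eU.left c.left h.left (hU'.map (Over.forget S)).flip hc hcs ?_
  refine etaleLocal_lci.ofPrecomp e'.left h'.left he' hes' ?_
  rw [← Over.comp_left, ← hee, Over.comp_left]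
  exact etaleLocal_lci.precomp _ _ he hr₂

/-- An etale chart is flat in the sense of `LocP`. -/
theorem locP_flat_of_etale {U : Over S} {G : Sp S} {b : (yon S).obj U ⟶ G} (hb : RepWith @Etale b) :
    LocP @Flat b :=
  locP_of_repWith etaleLocal_flat ⟨hb.1, fun _ _ g fst snd h => have : Etale snd.left := hb.2 g fst snd h; (inferInstance : Flat snd.left)⟩

/-- A flat morphism of schemes over `S` gives a flat morphism of sheaves. -/
theorem locP_flat_yon_map {U V : Over S} (c : U ⟶ V) [Flat c.left] : LocP @Flat ((yon S).map c) :=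
  locP_of_repWith etaleLocal_flat ((repWith_yon_map_iff _ _).2 ‹_›)

/-- Flat base change of Koszul morphisms of algebraic spaces. -/
theorem isLCIMor_baseChange {F G F' G' : Sp S} {f : F ⟶ G} {g : G' ⟶ G} {f' : F' ⟶ G'} {g' : F' ⟶ F}
    (hF : IsAlgSpace F) (hG : IsAlgSpace G) (hG' : IsAlgSpace G') (sq : IsPullback g' f' f g)
    (hg : LocP @Flat g) (hf : IsLCIMor f) : IsLCIMor f' := by
  intro U V a b h ha hb w
  have hQ := IsPullback.of_hasPullback f' b
  obtain ⟨m, hm, -, hm2⟩ := etale_toPullback ha hb w hQ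
  exact lci_chart hF hG hf (locP_comp etaleLocal_flat hG' hG (locP_flat_of_etale hb) hg) (hQ.paste_horiz sq) hm hm2

/-- A flat test object of the base of an fpqc covering lifts, after a finite flat covering of it by affines, to flat
test objects of the members. -/
theorem exists_flat_lifts {ι : Type u} {Y : Sp S} {Yi : ι → Sp S} {g : ∀ i, Yi i ⟶ Y} (hY : IsAlgSpace Y)
    (hYi : ∀ i, IsAlgSpace (Yi i)) (hg : IsFpqcCover Yi g) {Z : Over S} (hZ : IsAffine Z.left)
    {b : (yon S).obj Z ⟶ Y} (hb : LocP @Flat b) :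
    ∃ (κ : Type u) (_ : Finite κ) (T : κ → Over S) (c : ∀ j, T j ⟶ Z),
      (∀ j, IsAffine (T j).left) ∧ (∀ j, Flat (c j).left) ∧ (∀ z : Z.left, ∃ j, z ∈ Set.range (c j).left) ∧
      ∀ j, ∃ (i : ι) (l : (yon S).obj (T j) ⟶ Yi i), LocP @Flat l ∧ l ≫ g i = (yon S).map (c j) ≫ b := by
  obtain ⟨n, W, c, hW, hc, hs, hl⟩ := hg.2 Z hZ b
  choose i l hl using hl
  have key : ∀ j : Fin n, ∃ (κ : Type u) (_ : Finite κ) (T : κ → Over S) (e : ∀ t, T t ⟶ Z),
      (∀ t, IsAffine (T t).left) ∧ (∀ t, Flat (e t).left) ∧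
      (Set.range (c j).left ⊆ ⋃ t, Set.range (e t).left) ∧
      ∀ t, ∃ l' : (yon S).obj (T t) ⟶ Yi (i j), LocP @Flat l' ∧ l' ≫ g (i j) = (yon S).map (e t) ≫ b := by
    intro j
    have := hc j
    have := hW j
    let bj := (yon S).map (c j) ≫ b
    have hbj : LocP @Flat bj :=
      locP_comp etaleLocal_flat (Groth.Agent.StFib.isAlgSpace_yon Z) hY (locP_flat_yon_map (c j)) hb
    have sq := IsPullback.of_hasPullback (g (i j)) bj
    have hR : IsAlgSpace (pullback (g (i j)) bj) :=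
      Groth.Agent.AlgSp.isAlgSpace_pullback hY (hYi _) (Groth.Agent.StFib.isAlgSpace_yon _) _ _
    obtain ⟨T, t, ht, hts⟩ := hR.atlas
    obtain ⟨τ, hτ⟩ := (yon S).map_surjective (t ≫ pullback.snd (g (i j)) bj)
    have hR2 : LocP @Flat (pullback.snd (g (i j)) bj) :=
      locP_baseChange etaleLocal_flat (hYi _) hY sq (hg.1 _)
    have hR1 : LocP @Flat (pullback.fst (g (i j)) bj) :=
      locP_baseChange etaleLocal_flat (Groth.Agent.StFib.isAlgSpace_yon _) hY sq.flip hbj
    have hτf : Flat τ.left := hR2 t (𝟙 _) τ ht (repWith_id _ _) (by rw [Category.comp_id, hτ])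
    -- the section
    let s := sq.lift (l j) (𝟙 _) ((hl j).trans (Category.id_comp bj).symm)
    obtain ⟨T', e₁, e₂, hT'⟩ := Groth.Agent.AlgSpCov.exists_pullback ht.1 s
    have he₂ : Etale e₂.left := ht.2 s _ e₂ hT'
    have he₂s : Surjective e₂.left := hts.2 s _ e₂ hT'
    have hsec : e₁ ≫ τ = e₂ := (yon S).map_injective (by
      rw [Functor.map_comp, hτ, hT'.w_assoc, sq.lift_snd, Category.comp_id])
    have hex : ∀ w : (W j).left, ∃ (O : T.left.Opens) (O' : T'.left.Opens), IsAffineOpen O ∧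
        O' ≤ e₁.left ⁻¹ᵁ O ∧ w ∈ e₂.left '' O' := by
      intro w
      obtain ⟨w', rfl⟩ := e₂.left.surjective w
      obtain ⟨O, hO, hwO, -⟩ := exists_isAffineOpen_mem_and_subset (x := e₁.left w') (U := ⊤) trivial
      exact ⟨O, e₁.left ⁻¹ᵁ O, hO, le_rfl, w', hwO, rfl⟩
    choose O O' hO hO' hw using hex
    obtain ⟨fs, hfs⟩ := isCompact_univ.elim_finite_subcover (fun w : (W j).left => e₂.left '' (O' w : Set T'.left))
      (fun w => e₂.left.isOpenMap _ (O' w).isOpen) (fun w _ => Set.mem_iUnion.2 ⟨w, hw w⟩)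
    have hflat : ∀ w : (W j).left, Flat ((O w).ι ≫ τ.left ≫ (c j).left) := fun w => inferInstance
    refine ⟨{w // w ∈ fs}, inferInstance, fun w => Over.mk ((O w.1).ι ≫ T.hom),
      fun w => Over.homMk ((O w.1).ι ≫ τ.left ≫ (c j).left) (by simp),
      fun w => hO w.1, fun w => hflat w.1, ?_, fun w => ?_⟩
    · rintro _ ⟨v, rfl⟩
      obtain ⟨w, hwfs, v', hv', rfl⟩ := Set.mem_iUnion₂.1 (hfs (Set.mem_univ v))
      refine Set.mem_iUnion.2 ⟨⟨w, hwfs⟩, ⟨e₁.left v', hO' w hv'⟩, ?_⟩
      change ((O w).ι ≫ τ.left ≫ (c j).left) _ = _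
      rw [← hsec]
      rfl
    · let o : Over.mk ((O w.1).ι ≫ T.hom) ⟶ T := Over.homMk (O w.1).ι rfl
      have : Etale o.left := inferInstanceAs (Etale (O w.1).ι)
      refine ⟨(yon S).map o ≫ t ≫ pullback.fst (g (i j)) bj, ?_, ?_⟩
      · exact locP_comp etaleLocal_flat (Groth.Agent.StFib.isAlgSpace_yon T) (hYi _) (locP_flat_yon_map o)
          (locP_comp etaleLocal_flat hR (hYi _) (locP_flat_of_etale ht) hR1)
      · change _ = (yon S).map (o ≫ τ ≫ c j) ≫ b
        rw [Functor.map_comp, Functor.map_comp, hτ]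
        simp only [Category.assoc, pullback.condition]
        rfl
  choose κ hκ T e hT he hes hel using key
  refine ⟨Σ j : ULift.{u} (Fin n), κ j.down, inferInstance, fun p => T p.1.down p.2, fun p => e p.1.down p.2,
    fun p => hT _ _, fun p => he _ _, fun z => ?_, fun p => ⟨_, hel _ _⟩⟩
  obtain ⟨j, hj⟩ := hs z
  obtain ⟨t, ht⟩ := Set.mem_iUnion.1 (hes j hj)
  exact ⟨⟨⟨j⟩, t⟩, ht⟩

/-- Koszul morphisms of algebraic spaces descend along fpqc coverings. -/
theorem isLCIMor_of_fpqc {ι : Type u} {Y : Sp S} {Yi : ι → Sp S} {g : ∀ i, Yi i ⟶ Y} (hY : IsAlgSpace Y)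
    (hYi : ∀ i, IsAlgSpace (Yi i)) (hg : IsFpqcCover Yi g)
    {X : Sp S} {f : X ⟶ Y} {Xi : ι → Sp S} {p : ∀ i, Xi i ⟶ Yi i} {q : ∀ i, Xi i ⟶ X}
    (hXi : ∀ i, IsAlgSpace (Xi i)) (sq : ∀ i, IsPullback (q i) (p i) f (g i))
    (hp : ∀ i, IsLCIMor (p i)) : IsLCIMor f := by
  intro U V a b h ha hb w
  refine lci_of_openCover_target h.left V.left.affineCover fun k => ?_
  let Z : Over S := Over.mk (V.left.affineCover.f k ≫ V.hom)
  have : IsAffine Z.left := inferInstanceAs (IsAffine (V.left.affineCover.X k))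
  let ι' : Z ⟶ V := Over.homMk (V.left.affineCover.f k) rfl
  have : Flat ι'.left := inferInstanceAs (Flat (V.left.affineCover.f k))
  have hUZ := IsPullback.of_hasPullback h ι'
  suffices _root_.AlgSp.lci (pullback.snd h ι').left by
    have h1 := Groth.Agent.AlgSpCov.isPullback_over_left hUZ
    change _root_.AlgSp.lci (pullback.snd h.left ι'.left)
    rw [← h1.isoPullback_inv_snd]
    exact lci_smooth_comp _ _ this
  have hQV := IsPullback.of_hasPullback f b
  obtain ⟨m, hm, -, hm2⟩ := etale_toPullback ha hb w hQV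
  have hQZ := IsPullback.of_hasPullback f ((yon S).map ι' ≫ b)
  obtain ⟨mZ, hmZ, hmZ2⟩ := chart_baseChange ι' hQV hQZ hm hm2 hUZ
  obtain ⟨κ, _, T, c, hT, hc, hs, hl⟩ := exists_flat_lifts hY hYi hg ‹IsAffine Z.left›
    (locP_comp etaleLocal_flat (Groth.Agent.StFib.isAlgSpace_yon V) hY (locP_flat_yon_map ι') (locP_flat_of_etale hb))
  refine lci_of_finite_family (pullback.snd h ι').left (fun j => (T j).left) (fun j => (c j).left) hs fun j => ?_
  have hT := IsPullback.of_hasPullback (pullback.snd h ι') (c j)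
  have hQj := IsPullback.of_hasPullback f ((yon S).map (c j) ≫ (yon S).map ι' ≫ b)
  obtain ⟨mj, hmj, hmj2⟩ := chart_baseChange (c j) hQZ hQj hmZ hmZ2 hT
  obtain ⟨i, l, hlf, hli⟩ := hl j
  obtain ⟨r, hr₁, hr₂⟩ := (sq i).exists_lift (pullback.fst f ((yon S).map (c j) ≫ (yon S).map ι' ≫ b))
    (pullback.snd f _ ≫ l) (by rw [hQj.w, Category.assoc, hli])
  have hQi : IsPullback r (pullback.snd f ((yon S).map (c j) ≫ (yon S).map ι' ≫ b)) (p i) l := by
    refine IsPullback.of_right ?_ hr₂ (sq i)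
    rw [hr₁, hli]
    exact hQj
  have h1 := lci_chart (hXi i) (hYi i) (hp i) hlf hQi hmj hmj2
  have h2 := Groth.Agent.AlgSpCov.isPullback_over_left hT
  rw [← h2.isoPullback_inv_snd]
  exact lci_smooth_comp _ _ h1

/-- Being Koszul is fpqc local on the base. -/
theorem isLocalOnBase_lci : IsLocalOnBase (IsFpqcCover (S := S)) IsLCIMor :=
  fun _ _ _ _ hY hYi hg _ _ hX _ _ _ hXi sq =>
    ⟨fun hf i => isLCIMor_baseChange hX hY (hYi i) (sq i) (hg.1 i) hf, isLCIMor_of_fpqc hY hYi hg hXi sq⟩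

/-- If `f ≫ q` is Koszul and `q` smooth, then `f` is Koszul. -/
theorem isLCIMor_of_comp_smooth {X Y Z : Sp S} (f : X ⟶ Y) (q : Y ⟶ Z)
    (hZ : IsAlgSpace Z) (hq : LocP @Smooth q) (hp : IsLCIMor (f ≫ q)) : IsLCIMor f := by
  intro U V a b h ha hb w
  obtain ⟨W, c, hc, hcs⟩ := hZ.atlas
  obtain ⟨V', p₁, p₂, hV'⟩ := Groth.Agent.AlgSpCov.exists_pullback (hZ.representable_from_yon (b ≫ q)) c
  have he : Etale p₁.left := hc.2 _ _ p₁ hV'.flip
  have hes : Surjective p₁.left := hcs.2 _ _ p₁ hV'.flip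
  have hp₂ : Smooth p₂.left := hq ((yon S).map p₁ ≫ b) c p₂
    (repWith_comp ((repWith_yon_map_iff _ _).2 he) hb) hc (by rw [Category.assoc, hV'.w])
  have hU := IsPullback.of_hasPullback h p₁
  have hUl := hU.map (Over.forget S)
  have he' : Etale (pullback.fst h p₁).left := MorphismProperty.of_isPullback (P := @Etale) hUl.flip he
  refine etaleLocal_lci.descend (pullback.snd h p₁).left (pullback.fst h p₁).left p₁.left h.left hUl.flip he hes ?_
  have := hp₂
  refine Groth.Agent.S9729.result _ p₂.left (hp ((yon S).map (pullback.fst h p₁) ≫ a) c (pullback.snd h p₁ ≫ p₂)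
    (repWith_comp ((repWith_yon_map_iff _ _).2 he') ha) hc ?_)
  calc ((yon S).map (pullback.fst h p₁) ≫ a) ≫ f ≫ q
      = ((yon S).map (pullback.fst h p₁) ≫ (yon S).map h) ≫ b ≫ q := by
        simp only [Category.assoc]; rw [reassoc_of% w]
    _ = ((yon S).map (pullback.snd h p₁) ≫ (yon S).map p₁) ≫ b ≫ q := by
        rw [← Functor.map_comp, ← Functor.map_comp, hU.w]
    _ = (yon S).map (pullback.snd h p₁ ≫ p₂) ≫ c := by
        rw [Functor.map_comp, Category.assoc, Category.assoc, hV'.w]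

end Groth.Agent.AlgSpReg
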