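import Groth.Agent.AlgSpReg.LciFibre
import Groth.Agent.AlgSpReg.LciSpace
import Groth.Agent.AlgSp.HasAtMor
import Groth.Agent.AlgSpB.Open
import Groth.Prelude.Def_AlgSpMor6

/-!
# The Koszul locus of a morphism of algebraic spaces and base change
-/

universe u

open CategoryTheory CategoryTheory.Limits AlgebraicGeometry Opposite

set_option backward.isDefEq.respectTransparency false
set_option backward.isDefEq.respectTransparency.types false
set_option autoImplicit false

namespace Groth.Agent.AlgSpReg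

open _root_.AlgSp Groth.Agent.AlgSpCov

variable {S : Scheme.{u}}

/-- One Koszul chart with surjective source decides. -/
theorem isLCIMor_of_one_chart {F G : Sp S} {f : F ⟶ G} (hF : IsAlgSpace F) (hG : IsAlgSpace G) {U V : Over S}
    {a : (yon S).obj U ⟶ F} {b : (yon S).obj V ⟶ G} {h : U ⟶ V} (ha : RepWith @Etale a)
    (has : RepWith @Surjective a) (hb : RepWith @Etale b) (w : a ≫ f = (yon S).map h ≫ b)
    (hh : _root_.AlgSp.lci h.left) : IsLCIMor f := by
  intro U' V' a' b' h' ha' hb' w'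
  obtain ⟨U'', e₁, e₂, hU''⟩ := Groth.Agent.AlgSpCov.exists_pullback (hF.representable_from_yon a) a'
  obtain ⟨V'', q₁, q₂, hV''⟩ := Groth.Agent.AlgSpCov.exists_pullback (hG.representable_from_yon b) b'
  have he₁ : Etale e₁.left := ha'.2 _ _ e₁ hU''.flip
  have he₂ : Etale e₂.left := ha.2 _ _ e₂ hU''
  have he₂s : Surjective e₂.left := has.2 _ _ e₂ hU''
  have hq₁ : Etale q₁.left := hb'.2 _ _ q₁ hV''.flip
  have hq₂ : Etale q₂.left := hb.2 _ _ q₂ hV''
  obtain ⟨l, hl⟩ := (yon S).map_surjective (hV''.lift ((yon S).map (e₁ ≫ h)) ((yon S).map (e₂ ≫ h'))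
    (by rw [Functor.map_comp, Functor.map_comp, Category.assoc, Category.assoc, ← w, ← w', hU''.w_assoc]))
  have hl₁ : l ≫ q₁ = e₁ ≫ h := (yon S).map_injective (by rw [Functor.map_comp, hl, hV''.lift_fst])
  have hl₂ : l ≫ q₂ = e₂ ≫ h' := (yon S).map_injective (by rw [Functor.map_comp, hl, hV''.lift_snd])
  refine etaleLocal_lci.ofPrecomp e₂.left h'.left he₂ he₂s ?_
  rw [← Over.comp_left, ← hl₂, Over.comp_left]
  refine lci_comp_smooth _ ?_ q₂.left
  refine Groth.Agent.S9729.result l.left q₁.left ?_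
  rw [← Over.comp_left, hl₁, Over.comp_left]
  exact lci_smooth_comp e₁.left _ hh

/-- A morphism is Koszul near the image of a chart point where the chart is Koszul. -/
theorem locPNear_of_isKoszulAt {X Y : Space S} (f : X ⟶ Y) {U V : Over S} {a : (yon S).obj U ⟶ X.obj}
    {b : (yon S).obj V ⟶ Y.obj} {h : U ⟶ V} (ha : RepWith @Etale a) (hb : RepWith @Etale b)
    (w : a ≫ f.hom = (yon S).map h ≫ b) {u : U.left} (hu : Synt.IsKoszulAt h.left u) :
    LocPNear _root_.AlgSp.lci f.hom (Points.ofPt a u) := by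
  obtain ⟨W, P, i, π, huW, hlft, hi, hπ, hfac⟩ := hu
  have := hπ
  let UW : Over S := Over.mk (W.ι ≫ U.hom)
  let ι : UW ⟶ U := Over.homMk W.ι rfl
  have : Etale ι.left := inferInstanceAs (Etale W.ι)
  have ha' : RepWith @Etale ((yon S).map ι ≫ a) := Groth.Agent.AlgSpB.repWith_etale_map_comp ι ha
  obtain ⟨X', j, hj, hrange⟩ :=
    Groth.Agent.AlgSpB.exists_openSubspace X (W := Set.range (Points.ofPt ((yon S).map ι ≫ a)))
      (Groth.Agent.AlgSpB.isOpenMap_ofPt ha').isOpen_range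
  obtain ⟨a', hfac', hae, has⟩ := Groth.Agent.AlgSpB.exists_chart_into_subspace ha' hj hrange
  refine ⟨X'.obj, j.hom, hj, hrange ▸ ⟨⟨u, huW⟩, (Groth.Agent.AlgSpB.ofPt_map_comp ι a _).trans rfl⟩,
    isLCIMor_of_one_chart X'.property Y.property hae has hb (h := ι ≫ h) ?_ ?_⟩
  · rw [← Category.assoc, hfac', Category.assoc, w, Functor.map_comp, Category.assoc]
  · intro v
    change Synt.IsKoszulAt (W.ι ≫ h.left) v
    rw [← hfac]
    exact lci_comp_smooth i (fun y => Groth.Agent.S10665.isKoszulAt_of_immersion i hi y) π v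

/-- Where a morphism is Koszul, so is every chart. -/
theorem isKoszulAt_of_locPNear {X Y : Space S} (f : X ⟶ Y) {U V : Over S} {a : (yon S).obj U ⟶ X.obj}
    {b : (yon S).obj V ⟶ Y.obj} {h : U ⟶ V} (ha : RepWith @Etale a) (hb : RepWith @Etale b)
    (w : a ≫ f.hom = (yon S).map h ≫ b) {u : U.left}
    (hf : LocPNear _root_.AlgSp.lci f.hom (Points.ofPt a u)) : Synt.IsKoszulAt h.left u := by
  obtain ⟨W, j, hj, hx, hW⟩ := hf
  obtain ⟨U', pU₀, pW, sq⟩ := hj.1 a
  obtain ⟨pW, rfl⟩ : ∃ p, p = pW := ⟨pW, rfl⟩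
  have ho : IsOpenImmersion pU₀.left := hj.2 _ _ _ sq
  have hWe : RepWith @Etale pW := MorphismProperty.of_isPullback sq.flip ha
  have hmem : u ∈ Set.range pU₀.left := by
    rw [Groth.Agent.AlgSpB.range_snd_eq sq]
    exact hx
  obtain ⟨u', rfl⟩ := hmem
  refine isKoszulAt_of_openImmersion_comp pU₀.left h.left u' ?_
  refine hW pW b (pU₀ ≫ h) hWe hb ?_ u'
  rw [← Category.assoc, sq.w, Category.assoc, w, Functor.map_comp, Category.assoc]

/-- Base change of a chart over a chart of the base, through an atlas of the base change of the latter. -/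
theorem exists_chart_bc {F Z F' Z' R : Sp S} {π : F ⟶ Z} {g : Z' ⟶ Z} {gF : F' ⟶ F} {π' : F' ⟶ Z'}
    (sq : IsPullback gF π' π g) {C : Over S} {c : (yon S).obj C ⟶ Z} {r₁ : R ⟶ (yon S).obj C} {r₂ : R ⟶ Z'}
    (sR : IsPullback r₁ r₂ c g) {C' : Over S} {t : (yon S).obj C' ⟶ R} {γ : C' ⟶ C}
    (hγ : t ≫ r₁ = (yon S).map γ) (ht : RepWith @Etale t) (hts : RepWith @Surjective t)
    {U : Over S} {a : (yon S).obj U ⟶ F} (ha : RepWith @Etale a) (σ : U ⟶ C) (w : a ≫ π = (yon S).map σ ≫ c) :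
    ∃ (U' : Over S) (p : U' ⟶ U) (σ' : U' ⟶ C') (a' : (yon S).obj U' ⟶ F'), RepWith @Etale a' ∧
      IsPullback p σ' σ γ ∧ a' ≫ gF = (yon S).map p ≫ a ∧ a' ≫ π' = (yon S).map σ' ≫ t ≫ r₂ ∧
      ∀ (u : U.left) (x : Points F'), Points.map gF x = Points.ofPt a u →
        ∃ u' : U'.left, p.left u' = u ∧ Points.ofPt a' u' = x := by
  have sA := IsPullback.of_hasPullback a gF
  have he : RepWith @Etale (pullback.snd a gF) := MorphismProperty.of_isPullback sA ha
  have big : IsPullback (pullback.fst a gF) (pullback.snd a gF ≫ π') ((yon S).map σ ≫ c) g := w ▸ sA.paste_vert sq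
  obtain ⟨l, hl₁, hl₂⟩ := sR.exists_lift (pullback.fst a gF ≫ (yon S).map σ) (pullback.snd a gF ≫ π')
    (by rw [Category.assoc, big.w])
  have sl : IsPullback (pullback.fst a gF) l ((yon S).map σ) r₁ := IsPullback.of_bot (hl₂.symm ▸ big) hl₁.symm sR
  have hP := IsPullback.of_hasPullback σ γ
  have hPy : IsPullback ((yon S).map (pullback.fst σ γ)) ((yon S).map (pullback.snd σ γ)) ((yon S).map σ)
      (t ≫ r₁) := hγ.symm ▸ hP.map (yon S)
  obtain ⟨m, hm₁, hm₂⟩ := sl.exists_lift ((yon S).map (pullback.fst σ γ)) ((yon S).map (pullback.snd σ γ) ≫ t)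
    (by rw [Category.assoc, hPy.w])
  have sm : IsPullback m ((yon S).map (pullback.snd σ γ)) l t :=
    IsPullback.of_right (hm₁.symm ▸ hPy) hm₂ sl
  have hme : RepWith @Etale m := MorphismProperty.of_isPullback sm.flip ht
  have hms : RepWith @Surjective m := MorphismProperty.of_isPullback sm.flip hts
  refine ⟨_, pullback.fst σ γ, pullback.snd σ γ, m ≫ pullback.snd a gF,
    MorphismProperty.comp_mem (RepWith @Etale) _ _ hme he, hP, ?_, ?_, fun u x hx => ?_⟩
  · rw [Category.assoc, ← pullback.condition, reassoc_of% hm₁]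
  · rw [Category.assoc, ← hl₂, reassoc_of% hm₂]
  · obtain ⟨q, hq₁, hq₂⟩ := Groth.Agent.AlgSpB.exists_of_isPullback sA
      (Points.ofPt (𝟙 ((yon S).obj U)) u) x (by rw [Points.map_ofPt, Category.id_comp, hx])
    obtain ⟨u', rfl⟩ := Groth.Agent.AlgSpB.surjective_ofPt hms q
    refine ⟨u', ?_, by rw [← hq₂, Points.map_ofPt]⟩
    rw [Points.map_ofPt, hm₁] at hq₁
    apply (Points.schemeHomeo U).injective
    change Points.ofPt (𝟙 ((yon S).obj U)) ((pullback.fst σ γ).left u') = Points.ofPt (𝟙 ((yon S).obj U)) u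
    rw [← Groth.Agent.AlgSpB.ofPt_map_comp, Category.comp_id, hq₁]

/-- The Koszul locus commutes with base change, for flat finitely presented spaces over a base. -/
theorem locPNear_lci_baseChange_iff {X Y Z : Space S} (f : X ⟶ Y) (p : X ⟶ Z) (q : Y ⟶ Z) (hc : f ≫ q = p)
    (hp1 : LocP @Flat p.hom) (hp2 : LocP @LocallyOfFinitePresentation p.hom)
    (hq1 : LocP @Flat q.hom) (hq2 : LocP @LocallyOfFinitePresentation q.hom)
    {Z' Y' X' : Space S} (g : Z' ⟶ Z) (gY : Y' ⟶ Y) (q' : Y' ⟶ Z') (hY : IsPullback gY.hom q'.hom q.hom g.hom)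
    (gX : X' ⟶ X) (f' : X' ⟶ Y') (hX : IsPullback gX.hom f'.hom f.hom gY.hom) (x' : Points X'.obj) :
    LocPNear _root_.AlgSp.lci f'.hom x' ↔ LocPNear _root_.AlgSp.lci f.hom (Points.map gX.hom x') := by
  obtain ⟨C, c, hce, hcs⟩ := Z.property.atlas
  obtain ⟨V, b, σ, hb, hbs, hσ⟩ := Groth.Agent.AlgSp.exists_chart_lift Y.property Z.property q.hom c hce hcs
  obtain ⟨U, a, h, ha, has, w⟩ := Groth.Agent.AlgSp.exists_chart_lift X.property Y.property f.hom b hb hbs
  have hR : IsAlgSpace (pullback c g.hom) :=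
    Groth.Agent.AlgSp.isAlgSpace_pullback Z.property (Groth.Agent.StFib.isAlgSpace_yon C) Z'.property _ _
  obtain ⟨C', t, ht, hts⟩ := hR.atlas
  obtain ⟨γ, hγ⟩ := (yon S).map_surjective (t ≫ pullback.fst c g.hom)
  have hte : RepWith @Etale (t ≫ pullback.snd c g.hom) :=
    MorphismProperty.comp_mem (RepWith @Etale) _ _ ht
      (MorphismProperty.of_isPullback (IsPullback.of_hasPullback c g.hom) hce)
  have hwp : a ≫ p.hom = (yon S).map (h ≫ σ) ≫ c := by
    rw [← hc, show (f ≫ q).hom = f.hom ≫ q.hom from rfl, reassoc_of% w, hσ, Functor.map_comp, Category.assoc]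
  obtain ⟨V', pV, σV, b', hb', hPV, hb'₁, hb'₂, -⟩ := exists_chart_bc hY (IsPullback.of_hasPullback c g.hom)
    hγ.symm ht hts hb σ hσ
  have hXp : IsPullback gX.hom (f'.hom ≫ q'.hom) p.hom g.hom := by
    have := hX.paste_vert hY
    rwa [show f.hom ≫ q.hom = p.hom from congrArg (·.hom) hc] at this
  obtain ⟨U', pU, σU, a', ha', hPU, ha'₁, ha'₂, hpts⟩ := exists_chart_bc hXp (IsPullback.of_hasPullback c g.hom)
    hγ.symm ht hts ha (h ≫ σ) hwp
  obtain ⟨h', hh'₁, hh'₂⟩ := hPV.exists_lift (pU ≫ h) σU (by rw [Category.assoc, hPU.w])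
  have w' : a' ≫ f'.hom = (yon S).map h' ≫ b' := by
    apply hY.hom_ext
    · rw [Category.assoc, ← hX.w, reassoc_of% ha'₁, Category.assoc, hb'₁, ← Functor.map_comp_assoc, hh'₁,
        Functor.map_comp, Category.assoc, w]
    · rw [Category.assoc, ha'₂, Category.assoc, hb'₂, ← Functor.map_comp_assoc, hh'₂]
  have sh : IsPullback pU h' h pV := IsPullback.of_bot (hh'₂.symm ▸ hPU) hh'₁.symm hPV
  -- the chart
  obtain ⟨u, hu⟩ := Groth.Agent.AlgSpB.surjective_ofPt has (Points.map gX.hom x')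
  obtain ⟨u', rfl, rfl⟩ := hpts u x' hu.symm
  have : Flat σ.left := hq1 b c σ hb hce hσ
  have : LocallyOfFinitePresentation σ.left := hq2 b c σ hb hce hσ
  have : Flat (h.left ≫ σ.left) := hp1 a c (h ≫ σ) ha hce hwp
  have : LocallyOfFinitePresentation (h.left ≫ σ.left) := hp2 a c (h ≫ σ) ha hce hwp
  have sYl : IsPullback pV.left σV.left σ.left γ.left := hPV.map (Over.forget S)
  have sXl : IsPullback pU.left h'.left h.left pV.left := sh.map (Over.forget S)
  rw [← hu]
  constructor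
  · intro h1
    exact locPNear_of_isKoszulAt f ha hb w (isKoszulAt_of_baseChange_flat sYl sXl
      (isKoszulAt_of_locPNear f' ha' hb' w' h1))
  · intro h1
    exact locPNear_of_isKoszulAt f' ha' hb' w' (isKoszulAt_baseChange sYl sXl
      (isKoszulAt_of_locPNear f ha hb w h1))

end Groth.Agent.AlgSpReg
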