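import Groth.Agent.AlgSpReg.Local
import Groth.Agent.AlgSp.InfRing
import Groth.Agent.AlgSpCov.Instances
import Groth.Agent.S8658
import Groth.Agent.S9729
import Groth.Agent.S10665

/-!
# Koszul morphisms of schemes are etale local on source and target
-/

universe u

open CategoryTheory CategoryTheory.Limits AlgebraicGeometry TopologicalSpace

set_option backward.isDefEq.respectTransparency false
set_option backward.isDefEq.respectTransparency.types false
set_option autoImplicit false

namespace Groth.Agent.AlgSpReg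

open Groth.Agent.RegImm44 in
/-- Locally of finite type: locally a closed subscheme of an affine scheme smooth over the base. -/
theorem exists_affine_presentation {X Y : Scheme.{u}} (f : X ⟶ Y) [LocallyOfFiniteType f] (x : X) :
    ∃ (A : CommRingCat.{u}) (I : Ideal A) (o : Spec (CommRingCat.of (A ⧸ I)) ⟶ X) (π : Spec A ⟶ Y),
      IsOpenImmersion o ∧ x ∈ Set.range o ∧ Smooth π ∧
        Spec.map (CommRingCat.ofHom (Ideal.Quotient.mk I)) ≫ π = o ≫ f := by
  obtain ⟨V, hV, hxV, -⟩ := exists_isAffineOpen_mem_and_subset (show f x ∈ (⊤ : Y.Opens) from trivial)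
  obtain ⟨U, hU, hxU, e⟩ := exists_isAffineOpen_mem_and_subset (show x ∈ f ⁻¹ᵁ V from hxV)
  let φ := f.appLE V U e
  have hφ : φ.hom.FiniteType := f.finiteType_appLE hV hU e
  letI := φ.hom.toAlgebra
  obtain ⟨n, α, hα⟩ := Algebra.FiniteType.iff_quotient_mvPolynomial''.1 hφ
  let c := CommRingCat.ofHom (MvPolynomial.C : Γ(Y, V) →+* MvPolynomial (Fin n) Γ(Y, V))
  let I : Ideal (MvPolynomial (Fin n) Γ(Y, V)) := RingHom.ker α.toRingHom
  let q : CommRingCat.of (MvPolynomial (Fin n) Γ(Y, V) ⧸ I) ≅ Γ(X, U) :=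
    (RingHom.quotientKerEquivOfSurjective hα).toCommRingCatIso
  have hca : c ≫ CommRingCat.ofHom (Ideal.Quotient.mk I) ≫ q.hom = φ := by
    ext r; exact α.commutes r
  have := smooth_specMap_C Γ(Y, V) n
  have := hV.isOpenImmersion_fromSpec
  have := hU.isOpenImmersion_fromSpec
  have : IsIso (Spec.map q.inv) := inferInstance
  refine ⟨CommRingCat.of (MvPolynomial (Fin n) Γ(Y, V)), I, Spec.map q.inv ≫ hU.fromSpec,
    Spec.map c ≫ hV.fromSpec, inferInstance, ?_, inferInstance, ?_⟩
  · obtain ⟨y, hy⟩ : x ∈ Set.range hU.fromSpec := by rw [hU.range_fromSpec]; exact hxU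
    obtain ⟨z, rfl⟩ := (Spec.map q.inv).surjective y
    exact ⟨z, hy⟩
  · rw [Category.assoc, ← IsAffineOpen.SpecMap_appLE_fromSpec f hV hU e, ← Spec.map_comp_assoc,
      ← Spec.map_comp_assoc]
    congr 2
    rw [← cancel_mono q.hom, Category.assoc, Category.assoc, q.inv_hom_id, Category.comp_id]
    exact hca

/-- Precomposition with a smooth morphism. -/
theorem lci_smooth_comp {X Y Z : Scheme.{u}} (e : X ⟶ Y) [Smooth e] (h : Y ⟶ Z) (hh : AlgSp.lci h) :
    AlgSp.lci (e ≫ h) :=
  fun x => Groth.Agent.RegImm44.isKoszulAt_comp e h (fun y => Groth.Agent.S10665.isKoszulAt_of_smooth e y) hh x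

/-- Composition with a smooth morphism. -/
theorem lci_comp_smooth {X Y Z : Scheme.{u}} (f : X ⟶ Y) (hf : AlgSp.lci f) (p : Y ⟶ Z) [Smooth p] :
    AlgSp.lci (f ≫ p) :=
  fun x => Groth.Agent.RegImm44.isKoszulAt_comp f p hf (fun y => Groth.Agent.S10665.isKoszulAt_of_smooth p y) x

/-- Koszul morphisms are etale local on the source. -/
theorem lci_of_etale_comp {X Y Z : Scheme.{u}} (e : X ⟶ Y) [Etale e] [Surjective e] (h : Y ⟶ Z)
    (hh : AlgSp.lci (e ≫ h)) : AlgSp.lci h := by
  have : LocallyOfFiniteType h := Groth.Agent.AlgSpCov.etaleLocal_locallyOfFiniteType.ofPrecomp e h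
    inferInstance inferInstance (Groth.Agent.RegImm44.locallyOfFiniteType_of_isKoszulAt hh)
  intro y
  obtain ⟨A, I, o, π, ho, ⟨q, hq⟩, hπ, hfac⟩ := exists_affine_presentation h y
  let c : Spec (CommRingCat.of (A ⧸ I)) ⟶ Spec A := Spec.map (CommRingCat.ofHom (Ideal.Quotient.mk I))
  have : IsClosedImmersion c := IsClosedImmersion.spec_of_surjective _ Ideal.Quotient.mk_surjective
  obtain ⟨w, hw⟩ := (pullback.snd e o).surjective q
  obtain ⟨B, _, φ, k, hφ, hk, ⟨t, ht⟩, hkoi⟩ :=
    Groth.Agent.AlgSp.InfRing.exists_etale_lift' I (pullback.snd e o) w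
  let g : Spec (CommRingCat.of B) ⟶ Spec A := Spec.map (CommRingCat.ofHom φ)
  have : Etale g := (HasRingHomProperty.Spec_iff (P := @Etale)).2 hφ
  let c' := Spec.map (CommRingCat.ofHom (Ideal.Quotient.mk (I.map φ)))
  have : IsClosedImmersion c' := IsClosedImmersion.spec_of_surjective _ Ideal.Quotient.mk_surjective
  let g' := Spec.map (CommRingCat.ofHom (Ideal.quotientMap (I.map φ) φ Ideal.le_comap_map))
  have sq : IsPullback c' g' g c := Groth.Agent.AlgSp.InfRing.isPullback_quotient I φ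
  have w' : c' ≫ g ≫ π = (k ≫ pullback.fst e o) ≫ e ≫ h := by
    rw [← Category.assoc, sq.w, Category.assoc, hfac, ← Category.assoc g', show g' = k ≫ pullback.snd e o from hk.symm]
    simp only [Category.assoc, pullback.condition_assoc]
  have : Etale (k ≫ pullback.fst e o) := inferInstance
  have hreg : RegImm.IsRegularImmersion .koszul c' :=
    Groth.Agent.RegImm44.isRegularImmersion_of_isKoszulAt (lci_smooth_comp (k ≫ pullback.fst e o) _ hh)
      (g ≫ π) c' w'
  -- descend to the image of the chart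
  let O : (Spec A).Opens := ⟨Set.range g, g.isOpenMap.isOpen_range⟩
  let g₀ : Spec (CommRingCat.of B) ⟶ O.toScheme := IsOpenImmersion.lift O.ι g (by
    rw [Scheme.Opens.range_ι]
    exact le_rfl)
  have hg₀ : g₀ ≫ O.ι = g := IsOpenImmersion.lift_fac _ _ _
  have : Flat g₀ := by
    have hf : Flat (g₀ ≫ O.ι) := by rw [hg₀]; infer_instance
    exact MorphismProperty.of_postcomp (W := @Flat) (W' := @IsOpenImmersion) g₀ O.ι inferInstance hf
  have hg₀o : IsOpenMap g₀ := fun s hs => by
    have : g₀ '' s = O.ι ⁻¹' (g '' s) := by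
      rw [← hg₀]
      ext z
      refine ⟨?_, ?_⟩
      · rintro ⟨b, hb, rfl⟩; exact ⟨b, hb, Scheme.Hom.comp_apply _ _ _⟩
      · rintro ⟨b, hb, hbz⟩; exact ⟨b, hb, O.ι.isOpenEmbedding.injective (by rw [← hbz, Scheme.Hom.comp_apply])⟩
    rw [this]
    exact (g.isOpenMap s hs).preimage O.ι.continuous
  have : Surjective g₀ := ⟨fun z => by
    obtain ⟨b, hb⟩ := z.2
    exact ⟨b, O.ι.isOpenEmbedding.injective (by rw [← Scheme.Hom.comp_apply, hg₀]; exact hb)⟩⟩
  have hqO : c q ∈ O := ⟨c' t, by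
    rw [← hw, ← ht, ← Scheme.Hom.comp_apply c' g, sq.w, Scheme.Hom.comp_apply, ← Scheme.Hom.comp_apply k, hk]⟩
  obtain ⟨r, hr₁, hr₂⟩ := (isPullback_morphismRestrict c O).exists_lift (c' ≫ g₀) g'
    (by rw [Category.assoc, hg₀, sq.w])
  have sq₀ : IsPullback r c' (c ∣_ O) g₀ := by
    refine IsPullback.of_right (h₁₂ := (c ⁻¹ᵁ O).ι) ?_ hr₁ (isPullback_morphismRestrict c O).flip
    rw [hr₂, hg₀]
    exact sq.flip
  have hOreg : RegImm.IsRegularImmersion .koszul (c ∣_ O) := by
    have : IsImmersion (c ∣_ O) := inferInstance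
    exact isRegularImmersion_of_flat_open (c ∣_ O) g₀ hg₀o .koszul (by decide)
      (isRegularImmersion_of_flat_open.isRegularImmersion_iso_comp sq₀.isoPullback.symm c' .koszul hreg |>
        fun h => sq₀.isoPullback_inv_snd ▸ h)
  let j : (c ⁻¹ᵁ O).toScheme ⟶ Y := (c ⁻¹ᵁ O).ι ≫ o
  refine ⟨j.opensRange, O.toScheme, j.isoOpensRange.inv ≫ (c ∣_ O), O.ι ≫ π, ?_, inferInstance,
    Groth.Agent.RegImm44.isRegularImmersion_open_comp _ _ hOreg, inferInstance, ?_⟩
  · exact ⟨⟨q, hqO⟩, hq⟩
  · rw [Category.assoc, morphismRestrict_ι_assoc, hfac, ← j.isoOpensRange_inv_comp_assoc]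
    simp only [j, Category.assoc]

/-- Koszul morphisms are etale local. -/
theorem etaleLocal_lci : Groth.Agent.AlgSpCov.EtaleLocal.{u} AlgSp.lci where
  precomp _ _ _ e h he hh := lci_smooth_comp e h hh
  ofPrecomp _ _ _ e h he hes hh := lci_of_etale_comp e h hh
  descend U' U W' W h' eU c h sq hc hcs hh := by
    have : Etale eU := MorphismProperty.of_isPullback (P := @Etale) sq hc
    have : Surjective eU := MorphismProperty.of_isPullback (P := @Surjective) sq hcs
    refine lci_of_etale_comp eU h ?_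
    rw [← sq.w]
    exact lci_comp_smooth h' hh c

/-- Being Koszul at a point can be seen on an open neighbourhood. -/
theorem isKoszulAt_of_openImmersion_comp {U X Y : Scheme.{u}} (o : U ⟶ X) [IsOpenImmersion o] (f : X ⟶ Y) (u : U)
    (h : Synt.IsKoszulAt (o ≫ f) u) : Synt.IsKoszulAt f (o u) := by
  obtain ⟨V, P, i, π, hu, hlft, hi, hπ, hfac⟩ := h
  let j : V.toScheme ⟶ X := V.ι ≫ o
  have := hlft
  refine ⟨j.opensRange, P, j.isoOpensRange.inv ≫ i, π, ⟨⟨u, hu⟩, rfl⟩, ?_,
    Groth.Agent.RegImm44.isRegularImmersion_open_comp _ _ hi, hπ, ?_⟩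
  · rw [← j.isoOpensRange_inv_comp_assoc, show j ≫ f = V.ι ≫ o ≫ f from Category.assoc _ _ _]
    infer_instance
  · rw [Category.assoc, hfac, ← j.isoOpensRange_inv_comp_assoc]
    simp only [j, Category.assoc]

/-- A morphism is Koszul if it is so over an open cover of the target. -/
theorem lci_of_openCover_target {X Y : Scheme.{u}} (f : X ⟶ Y) (𝒰 : Y.OpenCover)
    (h : ∀ i, AlgSp.lci (pullback.snd f (𝒰.f i))) : AlgSp.lci f := by
  intro x
  obtain ⟨i, y, hy⟩ := 𝒰.exists_eq (f x)
  obtain ⟨p, hp₁, -⟩ := Scheme.Pullback.exists_preimage_pullback x y hy.symm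
  rw [← hp₁]
  refine isKoszulAt_of_openImmersion_comp (pullback.fst f (𝒰.f i)) f p ?_
  rw [pullback.condition]
  exact lci_comp_smooth _ (h i) _ p

/-- A morphism is Koszul if it is so after base change along a finite jointly surjective family of flat morphisms
between affine schemes. -/
theorem lci_of_finite_family {ι : Type u} [Finite ι] {Z U : Scheme.{u}} (g : U ⟶ Z) (W : ι → Scheme.{u})
    (c : ∀ j, W j ⟶ Z) [IsAffine Z] [∀ j, IsAffine (W j)] [∀ j, Flat (c j)]
    (hs : ∀ z : Z, ∃ j, z ∈ Set.range (c j)) (H : ∀ j, AlgSp.lci (pullback.snd g (c j))) : AlgSp.lci g := by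
  let d : (∐ W) ⟶ Z := Sigma.desc c
  have hd : ∀ j, Sigma.ι W j ≫ d = c j := fun j => Sigma.ι_desc _ _
  have : Surjective d := ⟨fun z => by
    obtain ⟨j, w, rfl⟩ := hs z
    exact ⟨Sigma.ι W j w, by rw [← Scheme.Hom.comp_apply, hd]⟩⟩
  have : Flat d := (IsZariskiLocalAtSource.iff_of_openCover (P := @Flat) (sigmaOpenCover W)).2 fun j => by
    change Flat (Sigma.ι W j ≫ d)
    rw [hd]
    infer_instance
  have : QuasiCompact d := inferInstance
  refine Groth.Agent.RegImm44.isKoszulAt_of_baseChange g d (pullback.snd g d) (pullback.fst g d)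
    (IsPullback.of_hasPullback g d) (lci_of_openCover_target _ (sigmaOpenCover W) fun j => ?_)
  have h2 : IsPullback (pullback.fst (pullback.snd g d) (Sigma.ι W j) ≫ pullback.fst g d)
      (pullback.snd (pullback.snd g d) (Sigma.ι W j)) g (c j) := by
    rw [← hd j]
    exact (IsPullback.of_hasPullback (pullback.snd g d) (Sigma.ι W j)).paste_horiz (IsPullback.of_hasPullback g d)
  change AlgSp.lci (pullback.snd (pullback.snd g d) (Sigma.ι W j))
  rw [← h2.isoPullback_hom_snd]
  exact lci_smooth_comp h2.isoPullback.hom _ (H j)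

end Groth.Agent.AlgSpReg
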