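import Groth.Agent.S9849
import Groth.Agent.S8906
import Groth.Prelude.Def_AlgSpMor6
import Mathlib.AlgebraicGeometry.Morphisms.Etale
import Mathlib.AlgebraicGeometry.Morphisms.UniversallyOpen

/-!
# Regular immersions of schemes are etale local on the target
-/

universe u

open CategoryTheory CategoryTheory.Limits AlgebraicGeometry TopologicalSpace

set_option backward.isDefEq.respectTransparency false
set_option autoImplicit false

namespace Groth.Agent.AlgSpReg

variable {Z X X' : Scheme.{u}}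

/-- Being regular at a point can be seen on an open neighbourhood in the target. -/
theorem isRegularImmersionAt_of_restrict (i : Z ⟶ X) (k : RegImm.Kind) (U : X.Opens) (z : Z) (hz : i z ∈ U)
    (h : RegImm.IsRegularImmersion k (i ∣_ U)) : RegImm.IsRegularImmersionAt k i z := by
  obtain ⟨⟨V, hV⟩, hzV, hc, rs, hrs, hker⟩ := h.2 ⟨z, hz⟩
  have hmem : i z ∈ U.ι ''ᵁ V := ⟨_, hzV, morphismRestrict_base_coe i U ⟨z, hz⟩⟩
  refine ⟨⟨U.ι ''ᵁ V, hV.image_of_isOpenImmersion U.ι⟩, hmem, ?_, rs, hrs, ?_⟩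
  · exact (MorphismProperty.arrow_mk_iso_iff @IsClosedImmersion (morphismRestrictRestrict i U V)).1 hc
  · rw [morphismRestrict_app] at hker
    refine Eq.trans ?_ hker
    change _ = RingHom.ker (RingHom.comp _ (i.app (U.ι ''ᵁ V)).hom)
    rw [RingHom.ker_comp_of_injective]
    exact (ConcreteCategory.bijective_of_isIso
      (Z.presheaf.map (eqToHom (image_morphismRestrict_preimage i U V)).op)).1

/-- Regularity of an immersion descends along flat open surjections. -/
theorem isRegularImmersion_of_flat_open (i : Z ⟶ X) [IsImmersion i] (g : X' ⟶ X) [Flat g] (hg : IsOpenMap g)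
    [Surjective g] (k : RegImm.Kind) (hk : k ≠ RegImm.Kind.regular)
    (h : RegImm.IsRegularImmersion k (pullback.snd i g)) : RegImm.IsRegularImmersion k i := by
  refine ⟨inferInstance, fun z => ?_⟩
  obtain ⟨U, hU, hzU⟩ : ∃ U : X.Opens, IsAffineOpen U ∧ i z ∈ U := by
    obtain ⟨_, ⟨U, hU : IsAffineOpen U, rfl⟩, hzU, -⟩ :=
      X.isBasis_affineOpens.exists_subset_of_mem_open (Set.mem_univ (i z)) isOpen_univ
    exact ⟨U, hU, hzU⟩
  have hcov : ∀ x : X, x ∈ U → ∃ O : X'.Opens, IsAffineOpen O ∧ O ≤ g ⁻¹ᵁ U ∧ x ∈ g '' O := by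
    intro x hx
    obtain ⟨x', rfl⟩ := g.surjective x
    obtain ⟨_, ⟨O, hO : IsAffineOpen O, rfl⟩, hxO, hle⟩ :=
      X'.isBasis_affineOpens.exists_subset_of_mem_open (show x' ∈ (g ⁻¹ᵁ U : Set X') from hx) (g ⁻¹ᵁ U).isOpen
    exact ⟨O, hO, hle, x', hxO, rfl⟩
  choose O hO hle hmem using hcov
  obtain ⟨t, ht⟩ := hU.isCompact.elim_finite_subcover (fun x : (U : Set X) => g '' (O x.1 x.2 : Set X'))
    (fun x => hg _ (O x.1 x.2).isOpen) (fun x hx => Set.mem_iUnion.2 ⟨⟨x, hx⟩, hmem x hx⟩)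
  let Q : X'.Opens := ⨆ x : {x // x ∈ t}, O x.1.1 x.1.2
  have hQc : IsCompact (Q : Set X') := by
    simp only [Q, Opens.coe_iSup]
    exact isCompact_iUnion fun x => (hO _ _).isCompact
  have hQU : Q ≤ g ⁻¹ᵁ U := iSup_le fun x => hle _ _
  let g₀ : Q.toScheme ⟶ U.toScheme := IsOpenImmersion.lift U.ι (Q.ι ≫ g) (by
    rw [Scheme.Opens.range_ι]
    rintro _ ⟨q, rfl⟩
    exact hQU q.2)
  have hg₀ : g₀ ≫ U.ι = Q.ι ≫ g := IsOpenImmersion.lift_fac _ _ _
  have : Flat g₀ := by
    have hf : Flat (g₀ ≫ U.ι) := by rw [hg₀]; infer_instance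
    exact MorphismProperty.of_postcomp (W := @Flat) (W' := @IsOpenImmersion) g₀ U.ι inferInstance hf
  have : Surjective g₀ := by
    refine ⟨fun x => ?_⟩
    obtain ⟨y, hy, q, hq, hqx⟩ := Set.mem_iUnion₂.1 (ht x.2)
    have hqQ : q ∈ Q := Opens.mem_iSup.2 ⟨⟨y, hy⟩, hq⟩
    refine ⟨⟨q, hqQ⟩, U.ι.isOpenEmbedding.injective ?_⟩
    rw [← Scheme.Hom.comp_apply, hg₀]
    exact hqx
  have : CompactSpace Q.toScheme := isCompact_iff_compactSpace.1 hQc
  have : IsAffine U.toScheme := hU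
  have : QuasiCompact g₀ := quasiCompact_of_compactSpace g₀
  have : IsImmersion (i ∣_ U) := MorphismProperty.of_isPullback (isPullback_morphismRestrict i U).flip ‹IsImmersion i›
  refine isRegularImmersionAt_of_restrict i k U z hzU ?_
  refine Groth.Agent.S9849.result (i ∣_ U) g₀ k hk ?_
  -- the base change along `g₀` is a flat base change of the given one
  have sq : IsPullback (pullback.fst (i ∣_ U) g₀ ≫ (i ⁻¹ᵁ U).ι) (pullback.snd (i ∣_ U) g₀) i (Q.ι ≫ g) := by
    rw [← hg₀]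
    exact (IsPullback.of_hasPullback (i ∣_ U) g₀).paste_horiz (isPullback_morphismRestrict i U).flip
  let l : pullback (i ∣_ U) g₀ ⟶ pullback i g :=
    pullback.lift (pullback.fst (i ∣_ U) g₀ ≫ (i ⁻¹ᵁ U).ι) (pullback.snd (i ∣_ U) g₀ ≫ Q.ι)
      (by rw [sq.w, Category.assoc])
  have sq' : IsPullback l (pullback.snd (i ∣_ U) g₀) (pullback.snd i g) Q.ι := by
    refine IsPullback.of_right ?_ (pullback.lift_snd _ _ _) (IsPullback.of_hasPullback i g)
    rw [pullback.lift_fst]
    exact sq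
  have h' := Groth.Agent.S8906.result (pullback.snd i g) k h Q.ι
  have e : sq'.isoPullback.hom ≫ pullback.snd (pullback.snd i g) Q.ι = pullback.snd (i ∣_ U) g₀ :=
    sq'.isoPullback_hom_snd
  rw [← e]
  exact isRegularImmersion_iso_comp sq'.isoPullback _ k h'
where
  isRegularImmersion_iso_comp {A B C : Scheme.{u}} (e : A ≅ B) (j : B ⟶ C) (k : RegImm.Kind)
      (h : RegImm.IsRegularImmersion k j) : RegImm.IsRegularImmersion k (e.hom ≫ j) := by
    have := h.1
    refine ⟨inferInstance, fun a => ?_⟩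
    obtain ⟨⟨V, hV⟩, hm, hc, rs, hrs, hker⟩ := h.2 (e.hom a)
    refine ⟨⟨V, hV⟩, hm, ?_, rs, hrs, ?_⟩
    · rw [morphismRestrict_comp]
      have := hc
      infer_instance
    · rw [Scheme.Hom.comp_app]
      exact (RingHom.ker_comp_of_injective _
        (ConcreteCategory.bijective_of_isIso (e.hom.app (j ⁻¹ᵁ V))).1).trans hker

end Groth.Agent.AlgSpReg
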